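import Mathlib
import Cfsg.Prelude.Def_Characters
import Cfsg.Agent.Characters.Core
import Cfsg.Agent.Characters.Linear
import Cfsg.Agent.S0145
set_option linter.all false

/-!
# Elements `u` with `χ(1) - χ(u)` constant or `χ(u) = 0`

Basic column computations for S4757 and S4758.
-/

set_option autoImplicit false
set_option linter.unusedSectionVars false
set_option linter.style.haveILetI false
open scoped ComplexConjugate
open Cfsg Subgroup

namespace Cfsg.Agent.H668.ConstDiff

variable {G : Type*} [Group G] [Finite G]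

/-- The principal character. -/
def one (G : Type*) [Group G] : IrrCharacter G := ⟨1, Characters.Core.isIrr_one⟩

theorem one_coe : ((one G : IrrCharacter G) : G → ℂ) = fun _ => (1 : ℂ) := rfl

theorem one_apply (g : G) : ((one G : IrrCharacter G) : G → ℂ) g = 1 := rfl

theorem ne_one_iff {χ : IrrCharacter G} :
    χ ≠ one G ↔ (χ : G → ℂ) ≠ (fun _ => (1 : ℂ)) := by
  rw [not_iff_not]
  constructor
  · rintro rfl; rfl
  · intro h; exact Subtype.ext h

/-- Integral degrees and values. -/
theorem exists_vals (u : G) (c : ℤ)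
    (hyp : ∀ χ : IrrCharacter G, (χ : G → ℂ) ≠ (fun _ => (1 : ℂ)) →
      ((χ : G → ℂ) 1 - (χ : G → ℂ) u = c ∨ (χ : G → ℂ) u = 0)) :
    ∃ d v : IrrCharacter G → ℤ, (∀ χ : IrrCharacter G, 0 < d χ) ∧
      (∀ χ : IrrCharacter G, (χ : G → ℂ) 1 = d χ) ∧
      (∀ χ : IrrCharacter G, (χ : G → ℂ) u = v χ) ∧
      (∀ χ : IrrCharacter G, χ ≠ one G → v χ = d χ - c ∨ v χ = 0) ∧
      d (one G) = 1 ∧ v (one G) = 1 := by
  classical
  have h1 : ∀ χ : IrrCharacter G, ∃ n : ℕ, 0 < n ∧ (χ : G → ℂ) 1 = n :=
    fun χ => Characters.Core.isIrr_apply_one χ.2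
  choose n hn hn1 using h1
  have hone : n (one G) = 1 := by
    have := hn1 (one G)
    simp only [one_coe] at this
    exact_mod_cast this.symm
  refine ⟨fun χ => n χ, fun χ => if χ = one G then 1 else
    (if (χ : G → ℂ) u = 0 then 0 else (n χ : ℤ) - c), ?_, ?_, ?_, ?_, ?_, ?_⟩
  · intro χ
    have := hn χ
    show (0 : ℤ) < (n χ : ℤ)
    exact_mod_cast this
  · intro χ; rw [hn1]; simp
  · intro χ
    by_cases h : χ = one G
    · simp only [h, if_true]; rw [one_coe]; simp
    · simp only [h, if_false]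
      by_cases h0 : (χ : G → ℂ) u = 0
      · simp [h0]
      · simp only [h0, if_false]
        rcases hyp χ (ne_one_iff.1 h) with h2 | h2
        · rw [hn1] at h2
          push_cast
          rw [← h2]; ring
        · exact absurd h2 h0
  · intro χ h
    simp only [h, if_false]
    by_cases h0 : (χ : G → ℂ) u = 0
    · right; simp [h0]
    · left; simp [h0]
  · simp [hone]
  · simp

/-- Column orthogonality with the column of `1`. -/
theorem sum_dv [Fintype (IrrCharacter G)] (u : G) (hu : u ≠ 1) (d v : IrrCharacter G → ℤ)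
    (hd : ∀ χ : IrrCharacter G, (χ : G → ℂ) 1 = d χ)
    (hv : ∀ χ : IrrCharacter G, (χ : G → ℂ) u = v χ) :
    ∑ χ, d χ * v χ = 0 := by
  classical
  haveI := Fintype.ofFinite G
  have h := S0145.sum_irr_mul_conj (1 : G) u
  rw [if_neg] at h
  · have h2 : ∀ χ : IrrCharacter G, (χ : G → ℂ) 1 * conj ((χ : G → ℂ) u) =
        ((d χ * v χ : ℤ) : ℂ) := by
      intro χ
      rw [hd, hv]
      push_cast
      simp
    simp_rw [h2] at h
    exact_mod_cast h
  · intro hc
    exact hu (isConj_one_right.1 hc)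

/-- Column orthogonality of the column of `u`. -/
theorem sum_vv [Fintype (IrrCharacter G)] (u : G) (v : IrrCharacter G → ℤ)
    (hv : ∀ χ : IrrCharacter G, (χ : G → ℂ) u = v χ) :
    ∑ χ, v χ ^ 2 = (Nat.card (Subgroup.centralizer ({u} : Set G)) : ℤ) := by
  classical
  haveI := Fintype.ofFinite G
  have h := S0145.sum_irr_mul_conj u u
  rw [if_pos (IsConj.refl u)] at h
  have h2 : ∀ χ : IrrCharacter G, (χ : G → ℂ) u * conj ((χ : G → ℂ) u) =
      ((v χ ^ 2 : ℤ) : ℂ) := by
    intro χ
    rw [hv]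
    push_cast
    simp [sq]
  simp_rw [h2] at h
  exact_mod_cast h

/-- A non-perfect group has a non-principal linear character, a homomorphism. -/
theorem exists_hom_ne_one (h : commutator G ≠ ⊤) : ∃ f : G →* ℂˣ, f ≠ 1 := by
  by_contra hcon
  push Not at hcon
  have h1 := Characters.Linear.card_hom_eq_index_commutator G
  have h2 : Nat.card (G →* ℂˣ) = 1 := by
    rw [Nat.card_eq_one_iff_unique]
    exact ⟨⟨fun a b => by rw [hcon a, hcon b]⟩, ⟨1⟩⟩
  rw [h2] at h1
  exact h (Subgroup.index_eq_one.1 h1.symm)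

/-- The irreducible character of a homomorphism. -/
noncomputable def ofHom (f : G →* ℂˣ) : IrrCharacter G :=
  ⟨fun g => (f g : ℂ), Characters.Linear.isIrrCharacter_hom f⟩

theorem ofHom_coe (f : G →* ℂˣ) (g : G) : ((ofHom f : IrrCharacter G) : G → ℂ) g = (f g : ℂ) := rfl

theorem ofHom_inj {f f' : G →* ℂˣ} (h : ofHom f = ofHom f') : f = f' := by
  ext g
  exact congrFun (congrArg Subtype.val h) g

theorem ofHom_one : ofHom (1 : G →* ℂˣ) = one G := by
  apply Subtype.ext
  funext g
  simp [ofHom_coe, one_apply]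

theorem ofHom_ne_one {f : G →* ℂˣ} (h : f ≠ 1) : ofHom f ≠ one G := by
  intro h2
  rw [← ofHom_one] at h2
  exact h (ofHom_inj h2)

/-- An irreducible character of degree one comes from a homomorphism. -/
theorem exists_ofHom {χ : IrrCharacter G} (h : (χ : G → ℂ) 1 = 1) : ∃ f : G →* ℂˣ, χ = ofHom f := by
  obtain ⟨f, hf⟩ := Characters.Linear.exists_hom_of_isIrrCharacter χ.2 h
  exact ⟨f, Subtype.ext hf⟩

/-- A perfect group has no non-principal linear character. -/
theorem commutator_ne_top_of_hom {f : G →* ℂˣ} (hf : f ≠ 1) : commutator G ≠ ⊤ := by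
  intro h
  apply hf
  have h1 := Abelianization.commutator_subset_ker f
  rw [h] at h1
  ext g
  have : g ∈ f.ker := h1 (Subgroup.mem_top g)
  rw [MonoidHom.mem_ker] at this
  simp [this]

end Cfsg.Agent.H668.ConstDiff
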