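import Mathlib
import Cfsg.Prelude.Def_Characters
import Cfsg.Agent.Characters.Core
import Cfsg.Agent.Characters.Linear
import Cfsg.Agent.MTwelve.SmallDegree
import Cfsg.Agent.PermChar.SymAlt
import Cfsg.Agent.H668.ConstDiff
import Cfsg.Agent.Blocks.Deflate
import Cfsg.Agent.S0139
import Cfsg.Agent.S0145
set_option linter.all false

-- part: H668/CharPeel
section
/-!
# Splitting off irreducible constituents

`φ - χ` is a character if the irreducible `χ` occurs in the character `φ`; inner products of products.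
-/

set_option autoImplicit false
set_option linter.unusedSectionVars false
set_option linter.style.haveILetI false
open scoped ComplexConjugate
open Cfsg Cfsg.Agent.Characters.Core

namespace Cfsg.Agent.H668.CharPeel

universe u
variable {G : Type u} [Group G] [Fintype G]

/-- The complex conjugate function. -/
noncomputable def cj (χ : G → ℂ) : G → ℂ := fun g => conj (χ g)

theorem cj_apply (χ : G → ℂ) (g : G) : cj χ g = conj (χ g) := rfl

theorem cj_cj (χ : G → ℂ) : cj (cj χ) = χ := by
  funext g; simp [cj]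

theorem isIrr_cj {χ : G → ℂ} (h : IsIrrCharacter G χ) : IsIrrCharacter G (cj χ) := isIrr_conj h

theorem isChar_cj {χ : G → ℂ} (h : IsCharacter G χ) : IsCharacter G (cj χ) := isCharacter_conj h

theorem ip_mul_left (a b c : G → ℂ) : classInner (a * b) c = classInner a (c * cj b) := by
  rw [classInner_def, classInner_def]
  congr 1
  apply Finset.sum_congr rfl
  intro g _
  simp only [Pi.mul_apply, cj_apply, map_mul, Complex.conj_conj]
  ring

theorem ip_mul_right (a b c : G → ℂ) : classInner a (b * c) = classInner (a * cj c) b := by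
  rw [ip_mul_left, cj_cj]

theorem ip_comm_real {a b : G → ℂ} (ha : IsCharacter G a) (hb : IsCharacter G b) :
    classInner a b = classInner b a := by
  obtain ⟨n, hn⟩ := classInner_isNat ha hb
  have h := classInner_conj_symm a b
  rw [hn] at h ⊢
  rw [← h]; simp

/-- `χ` occurs in `φ` iff `φ - χ` is a character. -/
theorem isCharacter_sub {φ χ : G → ℂ} (hφ : IsCharacter G φ) (hχ : IsIrrCharacter G χ)
    (h : classInner φ χ ≠ 0) : IsCharacter G (φ - χ) := by
  classical
  haveI : Fintype (IrrCharacter G) := by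
    haveI := finite_irr (G := G)
    exact Fintype.ofFinite _
  obtain ⟨m, hm⟩ := isCharacter_iff.1 hφ
  have h1 : classInner φ χ = m ⟨χ, hχ⟩ := by
    rw [hm]
    exact classInner_sum_nsmul_irr m ⟨χ, hχ⟩
  have h2 : m ⟨χ, hχ⟩ ≠ 0 := by
    intro h0
    rw [h0] at h1
    exact h (by simpa using h1)
  rw [isCharacter_iff]
  refine ⟨fun ψ => if ψ = ⟨χ, hχ⟩ then m ψ - 1 else m ψ, ?_⟩
  have h3 : φ = χ + ∑ ψ : IrrCharacter G,
      (if ψ = ⟨χ, hχ⟩ then m ψ - 1 else m ψ) • (ψ : G → ℂ) := by
    rw [hm, ← Finset.add_sum_erase _ _ (Finset.mem_univ (⟨χ, hχ⟩ : IrrCharacter G)),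
      ← Finset.add_sum_erase _ (fun ψ : IrrCharacter G =>
        (if ψ = ⟨χ, hχ⟩ then m ψ - 1 else m ψ) • (ψ : G → ℂ))
        (Finset.mem_univ (⟨χ, hχ⟩ : IrrCharacter G)), ← add_assoc]
    congr 1
    · simp only [if_true]
      obtain ⟨k, hk⟩ := Nat.exists_eq_succ_of_ne_zero h2
      rw [hk]
      simp only [Nat.succ_eq_add_one, Nat.add_sub_cancel]
      rw [add_smul, one_smul, add_comm]
    · apply Finset.sum_congr rfl
      intro ψ hψ
      rw [if_neg (Finset.ne_of_mem_erase hψ)]
  nth_rewrite 1 [h3]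
  rw [add_sub_cancel_left]

/-- A nonzero character has a constituent. -/
theorem exists_constituent {φ : G → ℂ} (hφ : IsCharacter G φ) (h : φ ≠ 0) :
    ∃ χ : G → ℂ, IsIrrCharacter G χ ∧ classInner φ χ ≠ 0 := by
  by_contra hcon
  push Not at hcon
  apply h
  exact classFunction_eq_zero (isCharacter_isClassFunction hφ) hcon

/-- A character of degree zero is zero. -/
theorem eq_zero_of_apply_one {φ : G → ℂ} (hφ : IsCharacter G φ) (h : φ 1 = 0) : φ = 0 := by
  by_contra hne
  obtain ⟨χ, hχ, h1⟩ := exists_constituent hφ hne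
  have h2 := isCharacter_sub hφ hχ h1
  obtain ⟨n, hn⟩ := isCharacter_apply_one h2
  obtain ⟨m, hm0, hm⟩ := isIrr_apply_one hχ
  rw [Pi.sub_apply, h, hm, zero_sub] at hn
  have h3 : ((n + m : ℕ) : ℂ) = 0 := by push_cast; rw [← hn]; ring
  have h4 : n + m = 0 := by exact_mod_cast h3
  omega

/-- Two characters with a common constituent have a nonzero inner product. -/
theorem ip_ne_zero_of_common {φ ψ χ : G → ℂ} (hφ : IsCharacter G φ) (hψ : IsCharacter G ψ)
    (hχ : IsIrrCharacter G χ) (h1 : classInner φ χ ≠ 0) (h2 : classInner ψ χ ≠ 0) :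
    classInner φ ψ ≠ 0 := by
  have e1 : φ = χ + (φ - χ) := by ring
  have e2 : ψ = χ + (ψ - χ) := by ring
  have c1 := isCharacter_sub hφ hχ h1
  have c2 := isCharacter_sub hψ hχ h2
  have hχ' := isIrr_isCharacter hχ
  obtain ⟨a, ha⟩ := classInner_isNat hχ' c2
  obtain ⟨b, hb⟩ := classInner_isNat c1 hχ'
  obtain ⟨c, hc⟩ := classInner_isNat c1 c2
  rw [e1, e2, classInner_add_left, classInner_add_right, classInner_add_right,
    classInner_irr_self hχ, ha, hb, hc]
  have : ((1 + a + (b + c) : ℕ) : ℂ) ≠ 0 := by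
    rw [Nat.cast_ne_zero]; omega
  intro h
  apply this
  push_cast
  exact h

/-- The multiplicity of an irreducible in a product of an irreducible with a character. -/
theorem ip_one_le {φ : G → ℂ} (hφ : IsIrrCharacter G φ) {ψ : G → ℂ} (hψ : IsIrrCharacter G ψ) :
    classInner (φ * ψ) 1 = if φ = cj ψ then 1 else 0 := by
  rw [ip_mul_left, one_mul, classInner_irr hφ (isIrr_cj hψ)]

theorem one_ne_of_deg {χ : G → ℂ} {n : ℕ} (h : χ 1 = n) (hn : n ≠ 1) : χ ≠ 1 := by
  rintro rfl
  rw [Pi.one_apply] at h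
  exact hn (by exact_mod_cast h.symm)

end Cfsg.Agent.H668.CharPeel
end

-- part: H668/FourTypes
section
/-!
# The types of irreducible characters under `χ(1) - χ(u) = 4` or `χ(u) = 0`

`G` is perfect, `u ^ 2 = 1`, and every non-principal irreducible character `χ` has `χ(1) - χ(u) = 4` or
`χ(u) = 0`.
-/

set_option autoImplicit false
set_option linter.unusedSectionVars false
set_option linter.style.haveILetI false
open scoped ComplexConjugate
open Cfsg Cfsg.Agent.Characters.Core

namespace Cfsg.Agent.H668.FourTypes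

open Cfsg.Agent.H668.CharPeel

universe v
variable {G : Type v} [Group G] [Fintype G]

/-- The hypothesis, with `u ^ 2 = 1`. -/
structure Hyp (G : Type v) [Group G] (u : G) : Prop where
  perf : commutator G = ⊤
  sq : u ^ 2 = 1
  val : ∀ χ : G → ℂ, IsIrrCharacter G χ → χ ≠ 1 → χ 1 - χ u = 4 ∨ χ u = 0

/-- The small characters: `χ(1) = d`, `χ(u) = d - 4`. -/
structure A (u : G) (χ : G → ℂ) (d : ℕ) : Prop where
  irr : IsIrrCharacter G χ
  ne : χ ≠ 1
  one : χ 1 = d
  val : χ u = d - 4
  three : 3 ≤ d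

variable {u : G}

theorem A.char {χ : G → ℂ} {d : ℕ} (h : A u χ d) : IsCharacter G χ := isIrr_isCharacter h.irr

theorem A.cj {χ : G → ℂ} {d : ℕ} (h : A u χ d) : A u (cj χ) d where
  irr := isIrr_cj h.irr
  ne := by
    intro h1
    apply h.ne
    have := congrArg CharPeel.cj h1
    rw [cj_cj] at this
    rw [this]
    funext g
    simp [CharPeel.cj]
  one := by rw [cj_apply, h.one]; simp
  val := by
    rw [cj_apply, h.val, map_sub, Complex.conj_natCast]
    congr 1
    exact Complex.conj_ofNat 4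
  three := h.three

theorem A.ip_self {χ : G → ℂ} {d : ℕ} (h : A u χ d) : classInner χ χ = 1 := classInner_irr_self h.irr

theorem A.ip_one {χ : G → ℂ} {d : ℕ} (h : A u χ d) : classInner χ 1 = 0 :=
  classInner_irr_ne h.irr isIrr_one h.ne

theorem A.one_ip {χ : G → ℂ} {d : ℕ} (h : A u χ d) : classInner 1 χ = 0 :=
  classInner_irr_ne isIrr_one h.irr h.ne.symm

theorem A.ip_ne {χ ψ : G → ℂ} {d e : ℕ} (h : A u χ d) (h' : A u ψ e) (hde : d ≠ e) :
    classInner χ ψ = 0 := by
  apply classInner_irr_ne h.irr h'.irr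
  rintro rfl
  exact hde (by exact_mod_cast h.one.symm.trans h'.one)

/-- A nontrivial linear character does not exist. -/
theorem Hyp.deg_ne_one (H : Hyp G u) {χ : G → ℂ} (hχ : IsIrrCharacter G χ) (hne : χ ≠ 1) :
    χ 1 ≠ 1 := by
  intro h1
  obtain ⟨f, hf⟩ := Cfsg.Agent.Characters.Linear.exists_hom_of_isIrrCharacter hχ h1
  apply hne
  have h2 := Abelianization.commutator_subset_ker f
  rw [H.perf] at h2
  rw [hf]
  funext g
  have : g ∈ f.ker := h2 (Subgroup.mem_top g)
  rw [MonoidHom.mem_ker] at this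
  simp [this]

/-- The value at `u` is congruent to the degree modulo four. -/
theorem Hyp.four (H : Hyp G u) {χ : G → ℂ} (hχ : IsCharacter G χ) : ∃ k : ℕ, χ 1 = χ u + 4 * k :=
  Cfsg.Agent.MTwelve.SmallDegree.character_eq_add_four_mul H.perf hχ H.sq

/-- Degree minus value is at least four, or the degree is `4 e ≥ 8` and the value zero. Degree two is
excluded via the square of the character. -/
theorem Hyp.types (H : Hyp G u) {χ : G → ℂ} (hχ : IsIrrCharacter G χ) (hne : χ ≠ 1) :
    (∃ d : ℕ, A u χ d) ∨ ∃ e : ℕ, 2 ≤ e ∧ χ 1 = 4 * e ∧ χ u = 0 := by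
  obtain ⟨n, hn0, hn⟩ := isIrr_apply_one hχ
  have hn1 : n ≠ 1 := by
    rintro rfl
    exact H.deg_ne_one hχ hne (by rw [hn]; simp)
  have hpos : ∀ ψ : G → ℂ, IsIrrCharacter G ψ → ψ ≠ 1 → ∃ k : ℕ, 0 < k ∧ ψ 1 = ψ u + 4 * k := by
    intro ψ hψ hψ1
    obtain ⟨k, hk⟩ := H.four (isIrr_isCharacter hψ)
    refine ⟨k, ?_, hk⟩
    rcases Nat.eq_zero_or_pos k with h0 | h0
    · exfalso
      rw [h0] at hk
      have h1 : ψ 1 - ψ u = 0 := by rw [hk]; simp
      rcases H.val ψ hψ hψ1 with h2 | h2
      · rw [h1] at h2; norm_num at h2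
      · rw [h2, sub_zero] at h1
        exact isIrr_apply_one_ne_zero hψ h1
    · exact h0
  rcases H.val χ hχ hne with h1 | h1
  · left
    refine ⟨n, hχ, hne, hn, ?_, ?_⟩
    · rw [hn] at h1; linear_combination -h1
    · by_contra hlt
      have hn2 : n = 2 := by omega
      subst hn2
      have hu : χ u = -2 := by
        rw [hn] at h1; push_cast at h1; linear_combination -h1
      -- `χ ^ 2` is constant `4`
      have hc : IsCharacter G (χ * χ) := isCharacter_mul (isIrr_isCharacter hχ) (isIrr_isCharacter hχ)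
      -- every character with `φ 1 = φ u` has only trivial constituents
      have key : ∀ (k : ℕ) (φ : G → ℂ), IsCharacter G φ → φ 1 = k → φ u = φ 1 →
          classInner φ 1 = k := by
        intro k
        induction k with
        | zero =>
          intro φ hφ h0 _
          rw [eq_zero_of_apply_one hφ (by rw [h0]; simp)]
          simp [classInner_zero_left]
        | succ k ih =>
          intro φ hφ h0 h2
          have hφ0 : φ ≠ 0 := by
            rintro rfl
            rw [Pi.zero_apply] at h0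
            have : ((k + 1 : ℕ) : ℂ) ≠ 0 := Nat.cast_ne_zero.2 (Nat.succ_ne_zero k)
            exact this h0.symm
          obtain ⟨ψ, hψ, hψφ⟩ := exists_constituent hφ hφ0
          have hsub := isCharacter_sub hφ hψ hψφ
          by_cases hψ1 : ψ = 1
          · subst hψ1
            have := ih (φ - 1) hsub (by rw [Pi.sub_apply, Pi.one_apply, h0]; push_cast; ring)
              (by rw [Pi.sub_apply, Pi.sub_apply, h2]; rfl)
            rw [classInner_sub_left, classInner_irr_self isIrr_one] at this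
            push_cast
            linear_combination this
          · exfalso
            obtain ⟨k1, hk1, hk2⟩ := hpos ψ hψ hψ1
            obtain ⟨k3, hk3⟩ := H.four hsub
            rw [Pi.sub_apply, Pi.sub_apply, h2, hk2] at hk3
            have h5 : ((4 * (k3 + k1) : ℕ) : ℂ) = 0 := by
              push_cast; linear_combination -hk3
            have h6 : 4 * (k3 + k1) = 0 := by exact_mod_cast h5
            omega
      have h2 := key 4 (χ * χ) hc (by rw [Pi.mul_apply, hn]; norm_num)
        (by rw [Pi.mul_apply, Pi.mul_apply, hn, hu]; norm_num)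
      rw [ip_one_le hχ hχ] at h2
      split_ifs at h2 <;> norm_num at h2
  · obtain ⟨k, hk0, hk⟩ := hpos χ hχ hne
    rw [h1, zero_add] at hk
    by_cases hk1 : k = 1
    · left
      refine ⟨4, hχ, hne, ?_, ?_, by norm_num⟩
      · rw [hk, hk1]; norm_num
      · rw [h1]; norm_num
    · right
      exact ⟨k, by omega, hk, h1⟩

/-- Characters without trivial constituent, with given degree and value. -/
structure C (u : G) (φ : G → ℂ) (D E : ℕ) : Prop where
  char : IsCharacter G φ
  ip : classInner φ 1 = 0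
  one : φ 1 = D
  val : φ u = D - 4 * E

theorem Hyp.peel (H : Hyp G u) {φ : G → ℂ} {D E : ℕ} (h : C u φ D E) (h0 : φ ≠ 0) :
    (∃ (ψ : G → ℂ) (d : ℕ), A u ψ d ∧ d ≤ D ∧ 1 ≤ E ∧ C u (φ - ψ) (D - d) (E - 1)) ∨
    ∃ (ψ : G → ℂ) (e : ℕ), IsIrrCharacter G ψ ∧ 2 ≤ e ∧ ψ 1 = 4 * e ∧ ψ u = 0 ∧ 4 * e ≤ D ∧ e ≤ E ∧
      C u (φ - ψ) (D - 4 * e) (E - e) := by
  obtain ⟨ψ, hψ, hψφ⟩ := exists_constituent h.char h0
  have hψ1 : ψ ≠ 1 := by
    rintro rfl
    exact hψφ h.ip
  have hsub := isCharacter_sub h.char hψ hψφ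
  have hip : classInner (φ - ψ) 1 = 0 := by
    rw [classInner_sub_left, h.ip, classInner_irr_ne hψ isIrr_one hψ1, sub_zero]
  obtain ⟨n, hn⟩ := isCharacter_apply_one hsub
  obtain ⟨k, hk⟩ := H.four hsub
  rw [Pi.sub_apply, h.one] at hn
  rw [Pi.sub_apply, Pi.sub_apply, h.one, h.val] at hk
  rcases H.types hψ hψ1 with ⟨d, hd⟩ | ⟨e, he2, he1, heu⟩
  · left
    rw [hd.one] at hn
    rw [hd.one, hd.val] at hk
    have h1 : D = n + d := by
      have : ((D : ℕ) : ℂ) = ((n + d : ℕ) : ℂ) := by push_cast; linear_combination hn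
      exact_mod_cast this
    have h2 : E = k + 1 := by
      have : ((4 * E : ℕ) : ℂ) = ((4 * (k + 1) : ℕ) : ℂ) := by push_cast; linear_combination hk
      have : 4 * E = 4 * (k + 1) := by exact_mod_cast this
      omega
    refine ⟨ψ, d, hd, by omega, by omega, hsub, hip, ?_, ?_⟩
    · rw [Pi.sub_apply, h.one, hd.one, Nat.cast_sub (by omega)]
    · rw [Pi.sub_apply, h.val, hd.val, Nat.cast_sub (by omega), Nat.cast_sub (by omega)]
      push_cast; ring
  · right
    rw [he1] at hn
    rw [he1, heu] at hk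
    have h1 : D = n + 4 * e := by
      have : ((D : ℕ) : ℂ) = ((n + 4 * e : ℕ) : ℂ) := by push_cast; linear_combination hn
      exact_mod_cast this
    have h2 : E = k + e := by
      have : ((4 * E : ℕ) : ℂ) = ((4 * (k + e) : ℕ) : ℂ) := by push_cast; linear_combination hk
      have : 4 * E = 4 * (k + e) := by exact_mod_cast this
      omega
    refine ⟨ψ, e, hψ, he2, he1, heu, by omega, by omega, hsub, hip, ?_, ?_⟩
    · rw [Pi.sub_apply, h.one, he1, Nat.cast_sub (by omega)]
      push_cast; ring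
    · rw [Pi.sub_apply, h.val, heu, Nat.cast_sub (by omega), Nat.cast_sub (by omega)]
      push_cast; ring

theorem Hyp.zero (H : Hyp G u) {φ : G → ℂ} {D : ℕ} (h : C u φ D 0) : φ = 0 := by
  by_contra h0
  rcases H.peel h h0 with ⟨ψ, d, _, _, h1, _⟩ | ⟨ψ, e, _, h1, _, _, _, h2, _⟩
  · omega
  · omega

theorem C.ne_zero {φ : G → ℂ} {D E : ℕ} (h : C u φ D E) (hE : 1 ≤ E) : φ ≠ 0 := by
  rintro rfl
  have h1 := h.one
  have h2 := h.val
  rw [Pi.zero_apply] at h1 h2
  have h3 : ((4 * E : ℕ) : ℂ) = 0 := by push_cast; linear_combination h2 - h1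
  have h4 : 4 * E = 0 := by exact_mod_cast h3
  omega

/-- One constituent. -/
theorem Hyp.oneC (H : Hyp G u) {φ : G → ℂ} {D : ℕ} (h : C u φ D 1) : A u φ D := by
  rcases H.peel h (h.ne_zero le_rfl) with ⟨ψ, d, hd, h1, _, h2⟩ | ⟨ψ, e, _, h1, _, _, _, h2, _⟩
  · have h3 := H.zero h2
    rw [sub_eq_zero] at h3
    subst h3
    have : d = D := by
      have := hd.one.symm.trans h.one
      exact_mod_cast this
    rwa [this] at hd
  · omega

/-- Two constituents. -/
theorem Hyp.twoC (H : Hyp G u) {φ : G → ℂ} {D : ℕ} (h : C u φ D 2) :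
    (∃ (α β : G → ℂ) (a b : ℕ), A u α a ∧ A u β b ∧ φ = α + β ∧ a + b = D) ∨
      (IsIrrCharacter G φ ∧ D = 8 ∧ φ u = 0) := by
  rcases H.peel h (h.ne_zero (by norm_num)) with ⟨ψ, d, hd, h1, _, h2⟩ |
    ⟨ψ, e, hψ, h1, h1', hu, h3, h4, h2⟩
  · left
    have h3 := H.oneC h2
    exact ⟨ψ, φ - ψ, d, D - d, hd, h3, by ring, by omega⟩
  · right
    have he : e = 2 := by omega
    subst he
    have h5 := H.zero h2
    rw [sub_eq_zero] at h5
    subst h5
    refine ⟨hψ, ?_, hu⟩
    have := h1'.symm.trans h.one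
    push_cast at this
    have : ((8 : ℕ) : ℂ) = D := by push_cast; linear_combination this
    exact_mod_cast this.symm

/-- Three constituents. -/
theorem Hyp.threeC (H : Hyp G u) {φ : G → ℂ} {D : ℕ} (h : C u φ D 3) (hD : D ≤ 10) :
    ∃ (α β γ : G → ℂ) (a b c : ℕ), A u α a ∧ A u β b ∧ A u γ c ∧ φ = α + β + γ ∧ a + b + c = D := by
  rcases H.peel h (h.ne_zero (by norm_num)) with ⟨ψ, d, hd, h1, _, h2⟩ |
    ⟨ψ, e, hψ, h1, h1', hu, h3, h4, h2⟩
  · rcases H.twoC h2 with ⟨α, β, a, b, hα, hβ, h3, h4⟩ | ⟨h3, h4, h5⟩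
    · exact ⟨ψ, α, β, d, a, b, hd, hα, hβ, by rw [add_assoc, ← h3]; ring, by omega⟩
    · exfalso
      have := hd.three
      omega
  · exfalso
    have he : e = 2 ∨ e = 3 := by omega
    rcases he with rfl | rfl
    · have h5 := H.oneC h2
      have := h5.three
      omega
    · omega

end Cfsg.Agent.H668.FourTypes
end

-- part: H668/FourMain
section
/-!
# Characters of degree three under `χ(1) - χ(u) = 4` or `χ(u) = 0`
-/

set_option autoImplicit false
set_option linter.unusedSectionVars false
set_option linter.style.haveILetI false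
open scoped ComplexConjugate
open Cfsg Cfsg.Agent.Characters.Core

namespace Cfsg.Agent.H668.FourMain

open Cfsg.Agent.H668.CharPeel Cfsg.Agent.H668.FourTypes

universe v
variable {G : Type v} [Group G] [Fintype G] {u : G}

theorem ip_congr {a b c d : G → ℂ} (h : ∀ g, a g * conj (b g) = c g * conj (d g)) :
    classInner a b = classInner c d := by
  rw [classInner_def, classInner_def]
  congr 1
  exact Finset.sum_congr rfl fun g _ => h g

/-- A matrix identity. -/
theorem trace_sq_three (M : Matrix (Fin 3) (Fin 3) ℂ) :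
    (M * M).trace = M.trace ^ 2 - 2 * M.adjugate.trace := by
  rw [Matrix.adjugate_fin_three]
  simp only [Matrix.trace_fin_three, Matrix.mul_apply, Fin.sum_univ_three]
  simp
  ring

/-- `V(g²) = V(g)² - 2 conj V(g)` for a character of degree three of a perfect group. -/
theorem apply_mul_self (hperf : commutator G = ⊤) {V : G → ℂ} (hV : IsCharacter G V) (h3 : V 1 = 3)
    (g : G) : V (g * g) = V g ^ 2 - 2 * conj (V g) := by
  obtain ⟨n, ρ, hρ⟩ := isCharacter_def.1 hV
  have hn : n = 3 := by
    have : V 1 = n := by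
      rw [← hρ, Representation.char_one]
      simp
    rw [h3] at this
    exact_mod_cast this.symm
  subst hn
  have htr : ∀ g : G, V g = (LinearMap.toMatrix' (ρ g)).trace := by
    intro g
    rw [← hρ]
    rw [Representation.character]
    rw [LinearMap.trace_eq_matrix_trace ℂ (Pi.basisFun ℂ (Fin 3)), LinearMap.toMatrix_eq_toMatrix']
  have hinv := isCharacter_apply_inv hV g
  rw [← hinv, htr (g * g), htr g, htr g⁻¹, map_mul, LinearMap.toMatrix'_mul, trace_sq_three]
  have hdet : (LinearMap.toMatrix' (ρ g)).det = 1 := by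
    rw [LinearMap.det_toMatrix']
    exact Cfsg.Agent.MTwelve.SmallDegree.det_eq_one hperf ρ g
  have h1 : LinearMap.toMatrix' (ρ g) * LinearMap.toMatrix' (ρ g⁻¹) = 1 := by
    rw [← LinearMap.toMatrix'_mul, ← map_mul, mul_inv_cancel, map_one, LinearMap.toMatrix'_one]
  have h2 : (LinearMap.toMatrix' (ρ g)).adjugate = LinearMap.toMatrix' (ρ g⁻¹) := by
    calc (LinearMap.toMatrix' (ρ g)).adjugate =
        (LinearMap.toMatrix' (ρ g)).adjugate * (LinearMap.toMatrix' (ρ g) *
          LinearMap.toMatrix' (ρ g⁻¹)) := by rw [h1, mul_one]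
      _ = LinearMap.toMatrix' (ρ g⁻¹) := by
        rw [← mul_assoc, Matrix.adjugate_mul, hdet, one_smul, one_mul]
  rw [h2]

/-- The symmetric square. -/
theorem isCharacter_sym (hperf : commutator G = ⊤) {V : G → ℂ} (hV : IsCharacter G V)
    (h3 : V 1 = 3) : IsCharacter G (V * V - cj V) := by
  have h := Cfsg.Agent.PermChar.SymAlt.isCharacter_symSq hV
  have : V * V - cj V = fun g => (V g ^ 2 + V (g * g)) / 2 := by
    funext g
    rw [apply_mul_self hperf hV h3 g]
    simp only [Pi.sub_apply, Pi.mul_apply, cj_apply]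
    ring
  rw [this]
  exact h

theorem A.one3 {V : G → ℂ} (hV : A u V 3) : V 1 = 3 := by rw [hV.one]; norm_num

theorem A.val3 {V : G → ℂ} (hV : A u V 3) : V u = -1 := by rw [hV.val]; norm_num

theorem real_apply {V : G → ℂ} (h : V = cj V) (g : G) : conj (V g) = V g :=
  (congrFun h g).symm

/-- Non-real case: the symmetric square is irreducible of degree six. -/
theorem A_six (H : Hyp G u) {V : G → ℂ} (hV : A u V 3) (hne : V ≠ cj V) :
    A u (V * V - cj V) 6 := by
  apply H.oneC
  refine ⟨isCharacter_sym H.perf hV.char (A.one3 hV), ?_, ?_, ?_⟩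
  · rw [classInner_sub_left, ip_one_le hV.irr hV.irr, if_neg hne, hV.cj.ip_one, sub_zero]
  · rw [Pi.sub_apply, Pi.mul_apply, cj_apply, A.one3 hV, Complex.conj_ofNat]; norm_num
  · rw [Pi.sub_apply, Pi.mul_apply, cj_apply, A.val3 hV]
    simp
    norm_num

/-- Real case: the symmetric square is `1 + ψ`. -/
theorem A_five (H : Hyp G u) {V : G → ℂ} (hV : A u V 3) (hre : V = cj V) :
    A u (V * V - V - 1) 5 := by
  apply H.oneC
  have hc := isCharacter_sym H.perf hV.char (A.one3 hV)
  rw [← hre] at hc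
  have hip : classInner (V * V - V) 1 = 1 := by
    rw [classInner_sub_left, ip_one_le hV.irr hV.irr, if_pos hre, hV.ip_one, sub_zero]
  refine ⟨isCharacter_sub hc isIrr_one (by rw [hip]; norm_num), ?_, ?_, ?_⟩
  · rw [classInner_sub_left, hip, classInner_irr_self isIrr_one, sub_self]
  · rw [Pi.sub_apply, Pi.sub_apply, Pi.mul_apply, A.one3 hV, Pi.one_apply]; norm_num
  · rw [Pi.sub_apply, Pi.sub_apply, Pi.mul_apply, A.val3 hV, Pi.one_apply]
    norm_num

/-- Products of two characters of degree three. -/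
theorem prod_three (H : Hyp G u) {V W : G → ℂ} (hV : A u V 3) (hW : A u W 3) (hne : V ≠ cj W) :
    ∃ (α β : G → ℂ) (a b : ℕ), A u α a ∧ A u β b ∧ V * W = α + β ∧ a + b = 9 ∧ a < b := by
  have hC : C u (V * W) 9 2 := by
    refine ⟨isCharacter_mul hV.char hW.char, ?_, ?_, ?_⟩
    · rw [ip_one_le hV.irr hW.irr, if_neg hne]
    · rw [Pi.mul_apply, A.one3 hV, A.one3 hW]; norm_num
    · rw [Pi.mul_apply, A.val3 hV, A.val3 hW]; norm_num
  rcases H.twoC hC with ⟨α, β, a, b, hα, hβ, h1, h2⟩ | ⟨_, h1, _⟩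
  · rcases Nat.lt_or_ge a b with h3 | h3
    · exact ⟨α, β, a, b, hα, hβ, h1, h2, h3⟩
    · exact ⟨β, α, b, a, hβ, hα, by rw [h1, add_comm], by omega, by omega⟩
  · omega

/-- The norm of such a product is two. -/
theorem norm_prod_three (H : Hyp G u) {V W : G → ℂ} (hV : A u V 3) (hW : A u W 3)
    (hne : V ≠ cj W) : classInner (V * W) (V * W) = 2 := by
  obtain ⟨α, β, a, b, hα, hβ, h1, h2, h3⟩ := prod_three H hV hW hne
  rw [h1, classInner_add_left, classInner_add_right, classInner_add_right, hα.ip_self, hβ.ip_self,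
    hα.ip_ne hβ h3.ne, hβ.ip_ne hα h3.ne']
  norm_num

/-- Multiplicity at most one in such a product, and no constituent of degree at least seven. -/
theorem ip_prod_three_le (H : Hyp G u) {V W : G → ℂ} (hV : A u V 3) (hW : A u W 3)
    (hne : V ≠ cj W) {χ : G → ℂ} (hχ : IsIrrCharacter G χ) :
    classInner (V * W) χ = 0 ∨ classInner (V * W) χ = 1 := by
  obtain ⟨α, β, a, b, hα, hβ, h1, h2, h3⟩ := prod_three H hV hW hne
  rw [h1, classInner_add_left]
  by_cases hαχ : α = χ
  · right
    subst hαχ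
    rw [hα.ip_self, hβ.ip_ne hα h3.ne', add_zero]
  · rw [classInner_irr_ne hα.irr hχ hαχ, zero_add]
    by_cases hβχ : β = χ
    · right; subst hβχ; exact hβ.ip_self
    · left; exact classInner_irr_ne hβ.irr hχ hβχ

theorem ip_prod_three_big (H : Hyp G u) {V W : G → ℂ} (hV : A u V 3) (hW : A u W 3)
    (hne : V ≠ cj W) {χ : G → ℂ} (hχ : IsIrrCharacter G χ) {n : ℕ} (hn : χ 1 = n) (h7 : 7 ≤ n) :
    classInner (V * W) χ = 0 := by
  obtain ⟨α, β, a, b, hα, hβ, h1, h2, h3⟩ := prod_three H hV hW hne
  have h4 := hα.three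
  rw [h1, classInner_add_left, classInner_irr_ne hα.irr hχ, classInner_irr_ne hβ.irr hχ, add_zero]
  · rintro rfl
    have : b = n := by exact_mod_cast hβ.one.symm.trans hn
    omega
  · rintro rfl
    have : a = n := by exact_mod_cast hα.one.symm.trans hn
    omega

/-- **All characters of degree three are real.** -/
theorem real_of_three (H : Hyp G u) {V : G → ℂ} (hV : A u V 3) : V = cj V := by
  by_contra hne
  have h6 := A_six H hV hne
  set χ6 : G → ℂ := V * V - cj V with hχ6
  have hVV : V * V = χ6 + cj V := by rw [hχ6]; ring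
  have hcjV := hV.cj
  -- `θ`
  set θ : G → ℂ := V * cj V - 1 with hθ
  have hVcV : V * cj V = 1 + θ := by rw [hθ]; ring
  have hcVV : cj V * V = 1 + θ := by rw [mul_comm]; exact hVcV
  have hVcVc : IsCharacter G (V * cj V) := isCharacter_mul hV.char hcjV.char
  have hip1 : classInner (V * cj V) 1 = 1 := by
    rw [ip_one_le hV.irr hcjV.irr, cj_cj, if_pos rfl]
  have hθc : IsCharacter G θ := isCharacter_sub hVcVc isIrr_one (by rw [hip1]; norm_num)
  have hθ1 : classInner θ 1 = 0 := by
    rw [hθ, classInner_sub_left, hip1, classInner_irr_self isIrr_one, sub_self]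
  have h1θ : classInner 1 θ = 0 := by
    rw [ip_comm_real isCharacter_one hθc, hθ1]
  have hnormVV : classInner (V * cj V) (V * cj V) = 2 := by
    rw [← norm_prod_three H hV hV hne]
    exact ip_congr fun g => by simp [cj_apply]; ring
  have hθθ : classInner θ θ = 1 := by
    have := hnormVV
    rw [hVcV, classInner_add_left, classInner_add_right, classInner_add_right,
      classInner_irr_self isIrr_one, h1θ, hθ1] at this
    linear_combination this
  have hθirr : IsIrrCharacter G θ := isIrr_of_classInner_self hθc hθθ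
  have hθ8 : θ 1 = (8 : ℕ) := by
    rw [hθ, Pi.sub_apply, Pi.mul_apply, cj_apply, A.one3 hV, Complex.conj_ofNat, Pi.one_apply]
    norm_num
  -- all `W` of degree three have the same `θ`
  have hWθ : ∀ W : G → ℂ, A u W 3 → W * cj W = 1 + θ := by
    intro W hW
    by_cases h1 : V = cj W
    · rw [h1] at hVcV
      rw [cj_cj] at hVcV
      rw [mul_comm]; exact hVcV
    have h2 : classInner (W * cj W) (V * cj V) = 2 := by
      rw [← norm_prod_three H hV hW h1]
      exact ip_congr fun g => by simp [cj_apply]; ring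
    have hipW : classInner (W * cj W) 1 = 1 := by
      rw [ip_one_le hW.irr hW.cj.irr, cj_cj, if_pos rfl]
    have hWc : IsCharacter G (W * cj W - 1) :=
      isCharacter_sub (isCharacter_mul hW.char hW.cj.char) isIrr_one (by rw [hipW]; norm_num)
    have h3 : classInner (W * cj W - 1) θ = 1 := by
      rw [hVcV, classInner_add_right, hipW] at h2
      rw [classInner_sub_left, h1θ, sub_zero]
      linear_combination h2
    have h4 := isCharacter_sub hWc hθirr (by rw [h3]; norm_num)
    have h5 := eq_zero_of_apply_one h4 (by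
      rw [Pi.sub_apply, Pi.sub_apply, Pi.mul_apply, cj_apply, A.one3 hW, Complex.conj_ofNat,
        Pi.one_apply, hθ8]
      norm_num)
    rw [sub_sub, sub_eq_zero] at h5
    exact h5
  -- products `V W`, `V W'` are orthogonal
  have horth : ∀ X W W' : G → ℂ, A u X 3 → A u W 3 → A u W' 3 → W ≠ W' →
      classInner (X * W) (X * W') = 0 := by
    intro X W W' hX hW hW' hWW'
    have e1 : classInner (X * W) (X * W') = classInner (W * cj W') (X * cj X) :=
      ip_congr fun g => by simp [cj_apply]; ring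
    rw [e1, hWθ X hX, classInner_add_right]
    have hne' : W ≠ cj (cj W') := by rw [cj_cj]; exact hWW'
    rw [ip_one_le hW.irr hW'.cj.irr, if_neg hne', zero_add]
    exact ip_prod_three_big H hW hW'.cj hne' hθirr hθ8 (by norm_num)
  -- `V χ6 = θ + Q`
  have hVχc : IsCharacter G (V * χ6) := isCharacter_mul hV.char h6.char
  have hQ : classInner (V * χ6) θ ≠ 0 := by
    -- `[V χ6, V cj V] = [χ6 ^ 2, V] + 1`
    have e1 : classInner (V * χ6) (V * cj V) = classInner (χ6 * (V * V)) V :=
      ip_congr fun g => by simp [cj_apply]; ring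
    have e2 : classInner (χ6 * cj V) V = 1 := by
      have : classInner (χ6 * cj V) V = classInner χ6 (V * V) :=
        ip_congr fun g => by simp [cj_apply]; ring
      rw [this, hVV, classInner_add_right, h6.ip_self, h6.ip_ne hcjV (by norm_num), add_zero]
    have e3 : classInner (V * χ6) 1 = 0 := by
      rw [ip_one_le hV.irr h6.irr, if_neg]
      intro h
      have := h6.cj.one
      rw [← h, A.one3 hV] at this
      norm_num at this
    rw [hVV, mul_add, classInner_add_left, e2] at e1
    rw [hVcV, classInner_add_right, e3, zero_add] at e1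
    obtain ⟨n, hn⟩ := classInner_isNat (isCharacter_mul h6.char h6.char) hV.char
    rw [e1, hn]
    have : ((n + 1 : ℕ) : ℂ) ≠ 0 := Nat.cast_ne_zero.2 (Nat.succ_ne_zero n)
    exact_mod_cast this
  have hQc := isCharacter_sub hVχc hθirr hQ
  have e3 : classInner (V * χ6) 1 = 0 := by
    rw [ip_one_le hV.irr h6.irr, if_neg]
    intro h
    have := h6.cj.one
    rw [← h, A.one3 hV] at this
    norm_num at this
  have hθu : θ u = 0 := by
    rw [hθ, Pi.sub_apply, Pi.mul_apply, cj_apply, A.val3 hV, Pi.one_apply]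
    simp
  have hQC : C u (V * χ6 - θ) 10 3 := by
    refine ⟨hQc, ?_, ?_, ?_⟩
    · rw [classInner_sub_left, e3, hθ1, sub_zero]
    · rw [Pi.sub_apply, Pi.mul_apply, A.one3 hV, h6.one, hθ8]; norm_num
    · rw [Pi.sub_apply, Pi.mul_apply, A.val3 hV, h6.val, hθu]; norm_num
  obtain ⟨α, β, γ, a, b, c, hα, hβ, hγ, hsum, habc⟩ := H.threeC hQC (by norm_num)
  have ha := hα.three
  have hb := hβ.three
  have hc := hγ.three
  -- two of the constituents have degree three
  have htwo : ∃ W W' X : G → ℂ, A u W 3 ∧ A u W' 3 ∧ IsCharacter G X ∧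
      V * χ6 - θ = W + W' + X := by
    have h3 : (a = 3 ∧ b = 3) ∨ (a = 3 ∧ c = 3) ∨ (b = 3 ∧ c = 3) := by omega
    rcases h3 with ⟨rfl, rfl⟩ | ⟨rfl, rfl⟩ | ⟨rfl, rfl⟩
    · exact ⟨α, β, γ, hα, hβ, hγ.char, hsum⟩
    · exact ⟨α, γ, β, hα, hγ, hβ.char, by rw [hsum]; ring⟩
    · exact ⟨β, γ, α, hβ, hγ, hα.char, by rw [hsum]; ring⟩
  obtain ⟨W, W', X, hW, hW', hX, hsum'⟩ := htwo
  have hVχ : V * χ6 = θ + (W + W' + X) := by rw [← hsum']; ring
  -- multiplicities
  have hmult : ∀ Y : G → ℂ, A u Y 3 → classInner (V * χ6) Y = classInner (cj V * Y) χ6 := by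
    intro Y hY
    have e1 : classInner (V * χ6) Y = classInner χ6 (cj V * Y) :=
      ip_congr fun g => by simp [cj_apply]; ring
    rw [e1, ip_comm_real h6.char (isCharacter_mul hcjV.char hY.char)]
  have hVchi : ∀ Y : G → ℂ, A u Y 3 → classInner (V * χ6) Y = 0 ∨ classInner (V * χ6) Y = 1 := by
    intro Y hY
    rw [hmult Y hY]
    by_cases hYV : cj V = cj Y
    · left
      have : V = Y := by rw [← cj_cj V, hYV, cj_cj]
      subst this
      rw [hcVV, classInner_add_left, h6.one_ip, zero_add]
      apply classInner_irr_ne hθirr h6.irr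
      intro h
      have := h6.one
      rw [← h, hθ8] at this
      norm_num at this
    · exact ip_prod_three_le H hcjV hY hYV h6.irr
  have hθW : ∀ Y : G → ℂ, A u Y 3 → classInner θ Y = 0 := by
    intro Y hY
    apply classInner_irr_ne hθirr hY.irr
    intro h
    have := hY.one
    rw [← h, hθ8] at this
    norm_num at this
  have hnat : ∀ Y Z : G → ℂ, IsCharacter G Y → IsCharacter G Z → ∃ n : ℕ, classInner Y Z = n :=
    fun Y Z hY hZ => classInner_isNat hY hZ
  have hWW' : W ≠ W' := by
    rintro rfl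
    obtain ⟨n, hn⟩ := hnat X W hX hW.char
    have h1 : classInner (V * χ6) W = ((n + 2 : ℕ) : ℂ) := by
      rw [hVχ, classInner_add_left, classInner_add_left, classInner_add_left, hθW W hW, hW.ip_self, hn]
      push_cast; ring
    rcases hVchi W hW with h2 | h2
    · rw [h1] at h2
      have : n + 2 = 0 := by exact_mod_cast h2
      omega
    · rw [h1] at h2
      have : n + 2 = 1 := by exact_mod_cast h2
      omega
  have hpos1 : classInner (V * χ6) W ≠ 0 := by
    obtain ⟨n, hn⟩ := hnat X W hX hW.char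
    obtain ⟨m, hm⟩ := hnat W' W hW'.char hW.char
    have h1 : classInner (V * χ6) W = ((n + m + 1 : ℕ) : ℂ) := by
      rw [hVχ, classInner_add_left, classInner_add_left, classInner_add_left, hθW W hW, hW.ip_self,
        hn, hm]
      push_cast; ring
    rw [h1]
    exact Nat.cast_ne_zero.2 (by omega)
  have hpos2 : classInner (V * χ6) W' ≠ 0 := by
    obtain ⟨n, hn⟩ := hnat X W' hX hW'.char
    obtain ⟨m, hm⟩ := hnat W W' hW.char hW'.char
    have h1 : classInner (V * χ6) W' = ((n + m + 1 : ℕ) : ℂ) := by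
      rw [hVχ, classInner_add_left, classInner_add_left, classInner_add_left, hθW W' hW', hW'.ip_self,
        hn, hm]
      push_cast; ring
    rw [h1]
    exact Nat.cast_ne_zero.2 (by omega)
  rw [hmult W hW] at hpos1
  rw [hmult W' hW'] at hpos2
  exact ip_ne_zero_of_common (isCharacter_mul hcjV.char hW.char) (isCharacter_mul hcjV.char hW'.char)
    h6.irr hpos1 hpos2 (horth (cj V) W W' hcjV hW hW' hWW')

end Cfsg.Agent.H668.FourMain
end

-- part: H668/FourReal
section
/-!
# The real case: the characters `1, V, W, ψ, ξ` of degrees `1, 3, 3, 5, 4`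
-/

set_option autoImplicit false
set_option linter.unusedSectionVars false
set_option linter.style.haveILetI false
open scoped ComplexConjugate
open Cfsg Cfsg.Agent.Characters.Core

namespace Cfsg.Agent.H668.FourReal

open Cfsg.Agent.H668.CharPeel Cfsg.Agent.H668.FourTypes Cfsg.Agent.H668.FourMain

universe v
variable {G : Type v} [Group G] [Fintype G] {u : G}

/-- The conclusion of the character theory: the five characters of `A₅`. -/
structure Five (u : G) (V W ψ ξ : G → ℂ) : Prop where
  aV : A u V 3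
  aW : A u W 3
  aψ : A u ψ 5
  aξ : A u ξ 4
  reV : ∀ g, conj (V g) = V g
  reW : ∀ g, conj (W g) = W g
  ne : V ≠ W
  VV : V * V = 1 + V + ψ
  WW : W * W = 1 + W + ψ
  VW : V * W = ψ + ξ
  Vψ : V * ψ = V + ψ + W + ξ

/-- The square of an element of the kernel-value. -/
theorem sq_apply (H : Hyp G u) {V : G → ℂ} (hV : A u V 3) (g : G) :
    V (g * g) = V g ^ 2 - 2 * V g := by
  have h := apply_mul_self H.perf hV.char (A.one3 hV) g
  rwa [real_apply (real_of_three H hV) g] at h

/-- The common `ψ`. -/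
theorem psi_eq (H : Hyp G u) {V W : G → ℂ} (hV : A u V 3) (hW : A u W 3) :
    V * V - V - 1 = W * W - W - 1 := by
  by_cases hVW : V = W
  · rw [hVW]
  have hre := real_of_three H hV
  have hrW := real_of_three H hW
  have h5 := A_five H hV hre
  have h5' := A_five H hW hrW
  set ψ : G → ℂ := V * V - V - 1 with hψ
  set ψ' : G → ℂ := W * W - W - 1 with hψ'
  have e1 : V * V = 1 + V + ψ := by rw [hψ]; ring
  have e2 : W * W = 1 + W + ψ' := by rw [hψ']; ring
  have hne : V ≠ cj W := by rw [← hrW]; exact hVW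
  have h2 : classInner (V * V) (W * W) = 2 := by
    rw [← norm_prod_three H hV hW hne]
    exact ip_congr fun g => by
      simp only [Pi.mul_apply, map_mul, real_apply hre g, real_apply hrW g]; ring
  rw [e1, e2] at h2
  simp only [classInner_add_left, classInner_add_right] at h2
  rw [classInner_irr_self isIrr_one, hW.one_ip, h5'.one_ip, hV.ip_one, h5.ip_one,
    classInner_irr_ne hV.irr hW.irr hVW, hV.ip_ne h5' (by norm_num), h5.ip_ne hW (by norm_num)] at h2
  by_contra hcon
  rw [classInner_irr_ne h5.irr h5'.irr hcon] at h2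
  norm_num at h2

/-- Existence of the five characters. -/
theorem exists_five (H : Hyp G u) (hex : ∃ V : G → ℂ, A u V 3) :
    ∃ V W ψ ξ : G → ℂ, Five u V W ψ ξ := by
  obtain ⟨V₀, hV₀⟩ := hex
  have hψ := A_five H hV₀ (real_of_three H hV₀)
  set ψ : G → ℂ := V₀ * V₀ - V₀ - 1 with hψdef
  have hV₀re := real_apply (real_of_three H hV₀)
  have hψre : ∀ g, conj (ψ g) = ψ g := by
    intro g
    simp only [hψdef, Pi.sub_apply, Pi.mul_apply, Pi.one_apply, map_sub, map_mul, map_one, hV₀re g]
  -- square of `u`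
  have huu : u * u = 1 := by rw [← sq]; exact H.sq
  -- the alternating square of `ψ`
  obtain ⟨U, hU, hUψ⟩ : ∃ U : G → ℂ, A u U 3 ∧ classInner (ψ * ψ) U ≠ 0 := by
    have hLc := Cfsg.Agent.PermChar.SymAlt.isCharacter_altSq hψ.char
    have hSc := Cfsg.Agent.PermChar.SymAlt.isCharacter_symSq hψ.char
    set L : G → ℂ := fun g => (ψ g ^ 2 - ψ (g * g)) / 2 with hL
    set S : G → ℂ := fun g => (ψ g ^ 2 + ψ (g * g)) / 2 with hS
    have hLS : ψ * ψ = L + S := by
      funext g
      simp only [hL, hS, Pi.add_apply, Pi.mul_apply]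
      ring
    have hip : classInner (ψ * ψ) 1 = 1 := by
      rw [ip_one_le hψ.irr hψ.irr, if_pos]
      funext g
      exact (hψre g).symm
    obtain ⟨m, hm⟩ := classInner_isNat hLc isCharacter_one
    obtain ⟨m', hm'⟩ := classInner_isNat hSc isCharacter_one
    have hmle : m ≤ 1 := by
      rw [hLS, classInner_add_left, hm, hm'] at hip
      have : m + m' = 1 := by exact_mod_cast hip
      omega
    have hL1 : L 1 = 10 := by
      simp only [hL, mul_one]
      rw [hψ.one]; norm_num
    have hLu : L u = -2 := by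
      simp only [hL]
      rw [huu, hψ.one, hψ.val]; norm_num
    have key : ∃ U : G → ℂ, A u U 3 ∧ classInner L U ≠ 0 := by
      have hC : ∃ L' : G → ℂ, C u L' (10 - m) 3 ∧ L = L' + (m : ℂ) • (1 : G → ℂ) := by
        rcases Nat.le_one_iff_eq_zero_or_eq_one.1 hmle with rfl | rfl
        · refine ⟨L, ⟨hLc, by rw [hm]; simp, by rw [hL1]; norm_num, by rw [hLu]; norm_num⟩, by simp⟩
        · refine ⟨L - 1, ⟨isCharacter_sub hLc isIrr_one (by rw [hm]; norm_num), ?_, ?_, ?_⟩, ?_⟩
          · rw [classInner_sub_left, hm, classInner_irr_self isIrr_one]; norm_num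
          · rw [Pi.sub_apply, hL1, Pi.one_apply]; norm_num
          · rw [Pi.sub_apply, hLu, Pi.one_apply]; norm_num
          · simp
      obtain ⟨L', hL', hLL'⟩ := hC
      obtain ⟨α, β, γ, a, b, c, hα, hβ, hγ, hsum, habc⟩ := H.threeC hL' (by omega)
      have ha := hα.three
      have hb := hβ.three
      have hc := hγ.three
      have h3 : ∃ U X : G → ℂ, A u U 3 ∧ IsCharacter G X ∧ L' = U + X := by
        have : a = 3 ∨ b = 3 ∨ c = 3 := by omega
        rcases this with rfl | rfl | rfl
        · exact ⟨α, β + γ, hα, isCharacter_add hβ.char hγ.char, by rw [hsum]; ring⟩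
        · exact ⟨β, α + γ, hβ, isCharacter_add hα.char hγ.char, by rw [hsum]; ring⟩
        · exact ⟨γ, α + β, hγ, isCharacter_add hα.char hβ.char, by rw [hsum]; ring⟩
      obtain ⟨U, X, hU, hX, hUX⟩ := h3
      refine ⟨U, hU, ?_⟩
      obtain ⟨n, hn⟩ := classInner_isNat hX hU.char
      have : classInner L U = ((n + 1 : ℕ) : ℂ) := by
        rw [hLL', hUX, classInner_add_left, classInner_add_left, classInner_smul_left, hU.one_ip,
          hU.ip_self, hn]
        push_cast; ring
      rw [this]
      exact Nat.cast_ne_zero.2 (Nat.succ_ne_zero n)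
    obtain ⟨U, hU, hLU⟩ := key
    refine ⟨U, hU, ?_⟩
    obtain ⟨n, hn⟩ := classInner_isNat hLc hU.char
    obtain ⟨n', hn'⟩ := classInner_isNat hSc hU.char
    rw [hLS, classInner_add_left, hn, hn']
    rw [hn] at hLU
    have h1 : n ≠ 0 := by
      rintro rfl; simp at hLU
    have : ((n + n' : ℕ) : ℂ) ≠ 0 := Nat.cast_ne_zero.2 (by omega)
    exact_mod_cast this
  -- rename `V = U`
  have hVeq := psi_eq H hU hV₀
  rw [← hψdef] at hVeq
  have hUr := real_of_three H hU
  have hUre := real_apply hUr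
  have hVV : U * U = 1 + U + ψ := by rw [← hVeq]; ring
  have hUψc : IsCharacter G (U * ψ) := isCharacter_mul hU.char hψ.char
  have e1 : classInner (U * ψ) U = 1 := by
    have : classInner (U * ψ) U = classInner ψ (U * U) :=
      ip_congr fun g => by simp only [Pi.mul_apply, map_mul, hUre g]; ring
    rw [this, hVV, classInner_add_right, classInner_add_right, hψ.ip_one, hψ.ip_self,
      hψ.ip_ne hU (by norm_num)]
    norm_num
  have e2 : classInner (U * ψ) ψ = classInner (ψ * ψ) U :=
    ip_congr fun g => by simp only [Pi.mul_apply, hψre g, hUre g]; ring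
  have e2' : classInner (U * ψ) ψ ≠ 0 := by rw [e2]; exact hUψ
  have e3 : classInner (U * ψ) 1 = 0 := by
    rw [ip_one_le hU.irr hψ.irr, if_neg]
    intro h
    have := hψ.cj.one
    rw [← h, A.one3 hU] at this
    norm_num at this
  have hUψ0 : classInner U ψ = 0 := hU.ip_ne hψ (by norm_num)
  have hψU0 : classInner ψ U = 0 := hψ.ip_ne hU (by norm_num)
  have c1 : IsCharacter G (U * ψ - U) := isCharacter_sub hUψc hU.irr (by rw [e1]; norm_num)
  have c2 : IsCharacter G (U * ψ - U - ψ) := isCharacter_sub c1 hψ.irr (by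
    rw [classInner_sub_left, hUψ0, sub_zero]; exact e2')
  have hR : C u (U * ψ - U - ψ) 7 2 := by
    refine ⟨c2, ?_, ?_, ?_⟩
    · rw [classInner_sub_left, classInner_sub_left, e3, hU.ip_one, hψ.ip_one]; norm_num
    · rw [Pi.sub_apply, Pi.sub_apply, Pi.mul_apply, A.one3 hU, hψ.one]; norm_num
    · rw [Pi.sub_apply, Pi.sub_apply, Pi.mul_apply, A.val3 hU, hψ.val]; norm_num
  obtain ⟨W, ξ, hW, hξ, hWξ⟩ : ∃ W ξ : G → ℂ, A u W 3 ∧ A u ξ 4 ∧ U * ψ - U - ψ = W + ξ := by
    rcases H.twoC hR with ⟨α, β, a, b, hα, hβ, h1, h2⟩ | ⟨_, h1, _⟩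
    · have ha := hα.three
      have hb := hβ.three
      have : (a = 3 ∧ b = 4) ∨ (a = 4 ∧ b = 3) := by omega
      rcases this with ⟨rfl, rfl⟩ | ⟨rfl, rfl⟩
      · exact ⟨α, β, hα, hβ, h1⟩
      · exact ⟨β, α, hβ, hα, by rw [h1, add_comm]⟩
    · omega
  have hUψeq : U * ψ = U + ψ + W + ξ := by linear_combination hWξ
  have hUW : U ≠ W := by
    intro h
    rw [hUψeq, ← h] at e1
    simp only [classInner_add_left] at e1
    rw [hU.ip_self, hψU0, hξ.ip_ne hU (by norm_num)] at e1
    norm_num at e1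
  have hWr := real_of_three H hW
  have hWre := real_apply hWr
  have hWeq := psi_eq H hW hV₀
  rw [← hψdef] at hWeq
  have hWW : W * W = 1 + W + ψ := by rw [← hWeq]; ring
  have hUW0 : classInner U W = 0 := classInner_irr_ne hU.irr hW.irr hUW
  have hWU0 : classInner W U = 0 := classInner_irr_ne hW.irr hU.irr hUW.symm
  have hξψ0 : classInner ξ ψ = 0 := hξ.ip_ne hψ (by norm_num)
  have hψξ0 : classInner ψ ξ = 0 := hψ.ip_ne hξ (by norm_num)
  have hξU0 : classInner ξ U = 0 := hξ.ip_ne hU (by norm_num)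
  have hUξ0 : classInner U ξ = 0 := hU.ip_ne hξ (by norm_num)
  have hξW0 : classInner ξ W = 0 := hξ.ip_ne hW (by norm_num)
  have hWξ0 : classInner W ξ = 0 := hW.ip_ne hξ (by norm_num)
  have hψW0 : classInner ψ W = 0 := hψ.ip_ne hW (by norm_num)
  have hWψ0 : classInner W ψ = 0 := hW.ip_ne hψ (by norm_num)
  -- `U W = ψ + ξ'`
  have hneUW : U ≠ cj W := by rw [← hWr]; exact hUW
  obtain ⟨α, β, a, b, hα, hβ, hUWeq, hab, hlt⟩ := prod_three H hU hW hneUW
  have hUWψ : classInner (U * W) ψ = 1 := by
    have : classInner (U * W) ψ = classInner (U * ψ) W :=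
      ip_congr fun g => by simp only [Pi.mul_apply, hψre g, hWre g]; ring
    rw [this, hUψeq]
    simp only [classInner_add_left]
    rw [hUW0, hψW0, hW.ip_self, hξW0]
    norm_num
  obtain ⟨ξ', hξ', hUWeq'⟩ : ∃ ξ' : G → ℂ, A u ξ' 4 ∧ U * W = ψ + ξ' := by
    have ha := hα.three
    rw [hUWeq, classInner_add_left] at hUWψ
    have h3 : (a = 3 ∧ b = 6) ∨ (a = 4 ∧ b = 5) := by omega
    rcases h3 with ⟨rfl, rfl⟩ | ⟨rfl, rfl⟩
    · rw [hα.ip_ne hψ (by norm_num), hβ.ip_ne hψ (by norm_num)] at hUWψ
      norm_num at hUWψ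
    · rw [hα.ip_ne hψ (by norm_num), zero_add] at hUWψ
      have : β = ψ := by
        by_contra hne
        rw [classInner_irr_ne hβ.irr hψ.irr hne] at hUWψ
        norm_num at hUWψ
      subst this
      exact ⟨α, hα, by rw [hUWeq, add_comm]⟩
  -- norms
  have n1 : classInner (U * ψ) (U * ψ) = 4 := by
    rw [hUψeq]
    simp only [classInner_add_left, classInner_add_right]
    rw [hU.ip_self, hψ.ip_self, hW.ip_self, hξ.ip_self, hUψ0, hψU0, hUW0, hWU0, hUξ0, hξU0, hψW0,
      hWψ0, hψξ0, hξψ0, hWξ0, hξW0]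
    norm_num
  have hψψU : classInner (ψ * ψ) U = 1 := by
    rw [← e2, hUψeq]
    simp only [classInner_add_left]
    rw [hUψ0, hψ.ip_self, hWψ0, hξψ0]
    norm_num
  have hψψ1 : classInner (ψ * ψ) 1 = 1 := by
    rw [ip_one_le hψ.irr hψ.irr, if_pos]
    funext g
    exact (hψre g).symm
  have n2 : classInner (ψ * ψ) ψ = 2 := by
    have : classInner (U * ψ) (U * ψ) = classInner (ψ * ψ) (U * U) :=
      ip_congr fun g => by simp only [Pi.mul_apply, map_mul, hψre g, hUre g]; ring
    rw [this, hVV, classInner_add_right, classInner_add_right, hψψ1, hψψU] at n1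
    linear_combination n1
  -- `W ψ`
  have hWψc : IsCharacter G (W * ψ) := isCharacter_mul hW.char hψ.char
  have f1 : classInner (W * ψ) W = 1 := by
    have : classInner (W * ψ) W = classInner ψ (W * W) :=
      ip_congr fun g => by simp only [Pi.mul_apply, map_mul, hWre g]; ring
    rw [this, hWW, classInner_add_right, classInner_add_right, hψ.ip_one, hψ.ip_self, hψW0]
    norm_num
  have f2 : classInner (W * ψ) U = 1 := by
    have : classInner (W * ψ) U = classInner (U * W) ψ :=
      ip_congr fun g => by simp only [Pi.mul_apply, hψre g, hUre g]; ring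
    rw [this, hUWeq', classInner_add_left, hψ.ip_self, hξ'.ip_ne hψ (by norm_num)]
    norm_num
  have f3 : classInner (W * ψ) 1 = 0 := by
    rw [ip_one_le hW.irr hψ.irr, if_neg]
    intro h
    have := hψ.cj.one
    rw [← h, A.one3 hW] at this
    norm_num at this
  have c3 : IsCharacter G (W * ψ - W) := isCharacter_sub hWψc hW.irr (by rw [f1]; norm_num)
  have c4 : IsCharacter G (W * ψ - W - U) := isCharacter_sub c3 hU.irr (by
    rw [classInner_sub_left, hWU0, sub_zero, f2]; norm_num)
  have hR' : C u (W * ψ - W - U) 9 2 := by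
    refine ⟨c4, ?_, ?_, ?_⟩
    · rw [classInner_sub_left, classInner_sub_left, f3, hW.ip_one, hU.ip_one]; norm_num
    · rw [Pi.sub_apply, Pi.sub_apply, Pi.mul_apply, A.one3 hU, A.one3 hW, hψ.one]; norm_num
    · rw [Pi.sub_apply, Pi.sub_apply, Pi.mul_apply, A.val3 hU, A.val3 hW, hψ.val]; norm_num
  obtain ⟨α', β', a', b', hα', hβ', hR'eq, hab'⟩ :
      ∃ (α' β' : G → ℂ) (a' b' : ℕ), A u α' a' ∧ A u β' b' ∧ W * ψ - W - U = α' + β' ∧ a' + b' = 9 := by
    rcases H.twoC hR' with h | ⟨_, h1, _⟩
    · exact h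
    · omega
  have hWψeq : W * ψ = W + U + α' + β' := by linear_combination hR'eq
  have hcross : ∀ χ : G → ℂ, ∀ d : ℕ, A u χ d → ∃ n : ℕ, classInner χ U = n :=
    fun χ d h => classInner_isNat h.char hU.char
  have hα'U : classInner α' U = 0 ∧ classInner β' U = 0 := by
    obtain ⟨n, hn⟩ := classInner_isNat hα'.char hU.char
    obtain ⟨m, hm⟩ := classInner_isNat hβ'.char hU.char
    rw [hWψeq] at f2
    simp only [classInner_add_left] at f2
    rw [hWU0, hU.ip_self, hn, hm] at f2
    have : n + m = 0 := by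
      have : ((n + m : ℕ) : ℂ) = 0 := by push_cast; linear_combination f2
      exact_mod_cast this
    have hn0 : n = 0 := by omega
    have hm0 : m = 0 := by omega
    rw [hn, hm, hn0, hm0]; simp
  have hα'W : classInner α' W = 0 ∧ classInner β' W = 0 := by
    obtain ⟨n, hn⟩ := classInner_isNat hα'.char hW.char
    obtain ⟨m, hm⟩ := classInner_isNat hβ'.char hW.char
    rw [hWψeq] at f1
    simp only [classInner_add_left] at f1
    rw [hUW0, hW.ip_self, hn, hm] at f1
    have : n + m = 0 := by
      have : ((n + m : ℕ) : ℂ) = 0 := by push_cast; linear_combination f1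
      exact_mod_cast this
    have hn0 : n = 0 := by omega
    have hm0 : m = 0 := by omega
    rw [hn, hm, hn0, hm0]; simp
  have hα'β' : classInner α' β' = 0 ∧ classInner β' α' = 0 := by
    have : a' ≠ b' := by omega
    exact ⟨hα'.ip_ne hβ' this, hβ'.ip_ne hα' this.symm⟩
  have n3 : classInner (W * ψ) (W * ψ) = 4 := by
    rw [hWψeq]
    simp only [classInner_add_left, classInner_add_right]
    rw [hW.ip_self, hU.ip_self, hα'.ip_self, hβ'.ip_self, hWU0, hUW0, hα'U.1, hα'U.2, hα'W.1, hα'W.2,
      hα'β'.1, hα'β'.2, ip_comm_real hW.char hα'.char, ip_comm_real hW.char hβ'.char,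
      ip_comm_real hU.char hα'.char, ip_comm_real hU.char hβ'.char, hα'U.1, hα'U.2, hα'W.1, hα'W.2]
    norm_num
  have hψψW : classInner (ψ * ψ) W = 1 := by
    have : classInner (W * ψ) (W * ψ) = classInner (ψ * ψ) (W * W) :=
      ip_congr fun g => by simp only [Pi.mul_apply, map_mul, hψre g, hWre g]; ring
    rw [this, hWW, classInner_add_right, classInner_add_right, hψψ1, n2] at n3
    linear_combination n3
  -- `ξ' = ξ`
  have hξξ : classInner ξ' ξ = 1 := by
    have h1 : classInner (U * W) (U * ψ) = classInner (W * ψ) (U * U) :=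
      ip_congr fun g => by simp only [Pi.mul_apply, map_mul, hψre g, hUre g]; ring
    have h2 : classInner (W * ψ) ψ = classInner (ψ * ψ) W :=
      ip_congr fun g => by simp only [Pi.mul_apply, hψre g, hWre g]; ring
    rw [hVV, classInner_add_right, classInner_add_right, f3, f2, h2, hψψW, hUWeq', hUψeq] at h1
    simp only [classInner_add_left, classInner_add_right] at h1
    rw [hψ.ip_self, hψU0, hψW0, hψξ0, hξ'.ip_ne hU (by norm_num), hξ'.ip_ne hψ (by norm_num),
      hξ'.ip_ne hW (by norm_num)] at h1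
    linear_combination h1
  have hξeq : ξ' = ξ := by
    by_contra hne
    rw [classInner_irr_ne hξ'.irr hξ.irr hne] at hξξ
    norm_num at hξξ
  rw [hξeq] at hUWeq'
  exact ⟨U, W, ψ, ξ, hU, hW, hψ, hξ, hUre, hWre, hUW, hVV, hWW, hUWeq', hUψeq⟩

end Cfsg.Agent.H668.FourReal
end

-- part: H668/FourPoint
section
/-!
# Pointwise consequences, and the order
-/

set_option autoImplicit false
set_option linter.unusedSectionVars false
set_option linter.style.haveILetI false
open scoped ComplexConjugate
open Cfsg Cfsg.Agent.Characters.Core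

namespace Cfsg.Agent.H668.FourPoint

open Cfsg.Agent.H668.CharPeel Cfsg.Agent.H668.FourTypes Cfsg.Agent.H668.FourMain
  Cfsg.Agent.H668.FourReal

universe v
variable {G : Type v} [Group G] [Fintype G] {u : G} {V W ψ ξ : G → ℂ}

theorem Five.e1 (F : Five u V W ψ ξ) (g : G) : V g * V g = 1 + V g + ψ g := congrFun F.VV g
theorem Five.e2 (F : Five u V W ψ ξ) (g : G) : W g * W g = 1 + W g + ψ g := congrFun F.WW g
theorem Five.e3 (F : Five u V W ψ ξ) (g : G) : V g * W g = ψ g + ξ g := congrFun F.VW g
theorem Five.e4 (F : Five u V W ψ ξ) (g : G) : V g * ψ g = V g + ψ g + W g + ξ g :=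
  congrFun F.Vψ g

/-- `(V + 1) (V² - 2 V - W) = 0`. -/
theorem Five.f1 (F : Five u V W ψ ξ) (g : G) : (V g + 1) * (V g ^ 2 - 2 * V g - W g) = 0 := by
  have h1 := Five.e1 F g
  have h3 := Five.e3 F g
  have h4 := Five.e4 F g
  linear_combination (V g) * h1 + h4 - h3

/-- `(V - W) (V + W - 1) = 0`. -/
theorem Five.f2 (F : Five u V W ψ ξ) (g : G) : (V g - W g) * (V g + W g - 1) = 0 := by
  have h1 := Five.e1 F g
  have h2 := Five.e2 F g
  linear_combination h1 - h2

/-- The values of `V`. -/
theorem Five.values (F : Five u V W ψ ξ) (g : G) :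
    V g = -1 ∨ (V g = 3 ∧ W g = 3) ∨ (V g = 0 ∧ W g = 0) ∨
      (V g ^ 2 - V g - 1 = 0 ∧ W g = 1 - V g) := by
  rcases mul_eq_zero.1 (Five.f1 F g) with h | h
  · left; linear_combination h
  · right
    have hw : W g = V g ^ 2 - 2 * V g := by linear_combination -h
    have h2 := Five.f2 F g
    rw [hw] at h2
    have h3 : V g * ((3 - V g) * (V g ^ 2 - V g - 1)) = 0 := by linear_combination h2
    rcases mul_eq_zero.1 h3 with h4 | h4
    · right; left
      refine ⟨h4, ?_⟩
      rw [hw, h4]; norm_num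
    · rcases mul_eq_zero.1 h4 with h5 | h5
      · left
        have : V g = 3 := by linear_combination -h5
        refine ⟨this, ?_⟩
        rw [hw, this]; norm_num
      · right; right
        refine ⟨h5, ?_⟩
        rw [hw]
        linear_combination h5

/-- At elements with `V = -1`. -/
theorem Five.neg_one (H : Hyp G u) (F : Five u V W ψ ξ) {g : G} (h : V g = -1) :
    W g = -1 ∧ ψ g = 1 ∧ ξ g = 0 := by
  have h1 := Five.e1 F g
  have h2 := Five.e2 F g
  have h3 := Five.e3 F g
  have hψ : ψ g = 1 := by rw [h] at h1; linear_combination -h1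
  have hW : W g = -1 := by
    rw [hψ] at h2
    have h5 : (W g + 1) * (W g - 2) = 0 := by linear_combination h2
    rcases mul_eq_zero.1 h5 with h6 | h6
    · linear_combination h6
    · exfalso
      have hw : W g = 2 := by linear_combination h6
      have s1 := sq_apply H F.aV g
      have s2 := sq_apply H F.aW g
      rw [h] at s1
      rw [hw] at s2
      have s1' : V (g * g) = 3 := by rw [s1]; norm_num
      have s2' : W (g * g) = 0 := by rw [s2]; norm_num
      rcases Five.values F (g * g) with h7 | h7 | h7 | h7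
      · rw [s1'] at h7; norm_num at h7
      · rw [s2'] at h7; norm_num at h7
      · rw [s1'] at h7; norm_num at h7
      · rw [s1'] at h7; norm_num at h7
  refine ⟨hW, hψ, ?_⟩
  rw [h, hW, hψ] at h3
  linear_combination -h3

/-- The regular character of the quotient. -/
theorem Five.reg (H : Hyp G u) (F : Five u V W ψ ξ) (g : G) [Decidable (V g = 3)] :
    1 + 3 * V g + 3 * W g + 5 * ψ g + 4 * ξ g = if V g = 3 then 60 else 0 := by
  have h1 := Five.e1 F g
  have h3 := Five.e3 F g
  rcases Five.values F g with h | ⟨h, hw⟩ | ⟨h, hw⟩ | ⟨h, hw⟩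
  · obtain ⟨a, b, c⟩ := Five.neg_one H F h
    rw [if_neg (by rw [h]; norm_num), h, a, b, c]; norm_num
  · rw [if_pos h]
    rw [h, hw] at h3
    rw [h] at h1
    rw [h, hw]
    have hψ : ψ g = 5 := by linear_combination -h1
    have hξ : ξ g = 4 := by rw [hψ] at h3; linear_combination -h3
    rw [hψ, hξ]; norm_num
  · rw [if_neg (by rw [h]; norm_num)]
    rw [h, hw] at h3
    rw [h] at h1
    rw [h, hw]
    have hψ : ψ g = -1 := by linear_combination -h1
    have hξ : ξ g = 1 := by rw [hψ] at h3; linear_combination -h3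
    rw [hψ, hξ]; norm_num
  · rw [if_neg (by intro h5; rw [h5] at h; norm_num at h)]
    have hψ : ψ g = 0 := by linear_combination h - h1
    have hξ : ξ g = -1 := by
      rw [hψ, hw] at h3; linear_combination -h3 - h
    rw [hψ, hξ, hw]; ring

/-- `V(x²) = -1` is impossible; more precisely `V(x) ∈ {3, -1}` for 2-elements. -/
theorem Five.two_element (H : Hyp G u) (F : Five u V W ψ ξ) :
    ∀ (k : ℕ) (x : G), x ^ 2 ^ k = 1 → V x = 3 ∨ V x = -1 := by
  intro k
  induction k with
  | zero =>
    intro x hx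
    rw [pow_zero, pow_one] at hx
    left; rw [hx]; exact A.one3 F.aV
  | succ k ih =>
    intro x hx
    have h1 : (x * x) ^ 2 ^ k = 1 := by
      rw [← sq, ← pow_mul, ← pow_succ']; exact hx
    have h2 := sq_apply H F.aV x
    rcases ih (x * x) h1 with h3 | h3
    · rw [h3] at h2
      have h4 : (V x - 3) * (V x + 1) = 0 := by linear_combination -h2
      rcases mul_eq_zero.1 h4 with h5 | h5
      · left; linear_combination h5
      · right; linear_combination h5
    · exfalso
      rw [h3] at h2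
      have h4 : (V x - 1) ^ 2 = 0 := by linear_combination -h2
      have h5 : V x = 1 := by
        have := pow_eq_zero_iff (two_ne_zero) |>.1 h4
        linear_combination this
      rcases Five.values F x with h6 | ⟨h6, _⟩ | ⟨h6, _⟩ | ⟨h6, _⟩ <;> rw [h5] at h6 <;> norm_num at h6

/-- The order of the group. -/
theorem Five.card (H : Hyp G u) (F : Five u V W ψ ξ) :
    Nat.card G = 60 * Nat.card {g : G // V g = 3} := by
  classical
  have h1 : classInner ((1 : G → ℂ) + (3 : ℂ) • V + (3 : ℂ) • W + (5 : ℂ) • ψ + (4 : ℂ) • ξ) 1 = 1 := by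
    simp only [classInner_add_left, classInner_smul_left]
    rw [classInner_irr_self isIrr_one, F.aV.ip_one, F.aW.ip_one, F.aψ.ip_one, F.aξ.ip_one]
    norm_num
  rw [classInner_def] at h1
  have h2 : ∀ g : G, ((1 : G → ℂ) + (3 : ℂ) • V + (3 : ℂ) • W + (5 : ℂ) • ψ + (4 : ℂ) • ξ) g *
      conj ((1 : G → ℂ) g) = if V g = 3 then 60 else 0 := by
    intro g
    rw [← Five.reg H F g]
    simp
  rw [Finset.sum_congr rfl fun g _ => h2 g, ← Finset.sum_filter, Finset.sum_const, nsmul_eq_mul] at h1
  have h3 : (Nat.card G : ℂ) ≠ 0 := card_ne_zero_complex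
  have h4 : ((Finset.univ.filter fun g : G => V g = 3).card : ℂ) * 60 = Nat.card G := by
    field_simp at h1
    linear_combination h1
  have h5 : (Finset.univ.filter fun g : G => V g = 3).card = Nat.card {g : G // V g = 3} := by
    rw [Nat.card_eq_fintype_card, Fintype.card_subtype]
  rw [h5] at h4
  have h6 : Nat.card {g : G // V g = 3} * 60 = Nat.card G := by exact_mod_cast h4
  omega

/-- There are only two characters of degree three. -/
theorem Five.eq_or_eq (H : Hyp G u) (F : Five u V W ψ ξ) {U : G → ℂ} (hU : A u U 3) :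
    U = V ∨ U = W := by
  classical
  by_contra hcon
  push Not at hcon
  have hUr := real_of_three H hU
  have hp : ∀ g, U g * U g - U g = V g * V g - V g := by
    intro g
    have := congrFun (psi_eq H hU F.aV) g
    simp only [Pi.sub_apply, Pi.mul_apply, Pi.one_apply] at this
    linear_combination this
  have hker : ∀ g, V g = 3 → U g = 3 := by
    intro g hg
    have h1 := hp g
    rw [hg] at h1
    have h2 : (U g - 3) * (U g + 2) = 0 := by linear_combination h1
    rcases mul_eq_zero.1 h2 with h3 | h3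
    · linear_combination h3
    · exfalso
      have h4 : U g = -2 := by linear_combination h3
      have s1 := sq_apply H hU g
      have s2 := sq_apply H F.aV g
      rw [h4] at s1
      rw [hg] at s2
      have h5 := hp (g * g)
      rw [s1, s2] at h5
      norm_num at h5
  have h1 : classInner ((1 : G → ℂ) + (3 : ℂ) • V + (3 : ℂ) • W + (5 : ℂ) • ψ + (4 : ℂ) • ξ) U = 0 := by
    simp only [classInner_add_left, classInner_smul_left]
    rw [hU.one_ip, classInner_irr_ne F.aV.irr hU.irr (Ne.symm hcon.1),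
      classInner_irr_ne F.aW.irr hU.irr (Ne.symm hcon.2), F.aψ.ip_ne hU (by norm_num),
      F.aξ.ip_ne hU (by norm_num)]
    norm_num
  rw [classInner_def] at h1
  have h2 : ∀ g : G, ((1 : G → ℂ) + (3 : ℂ) • V + (3 : ℂ) • W + (5 : ℂ) • ψ + (4 : ℂ) • ξ) g *
      conj (U g) = if V g = 3 then 180 else 0 := by
    intro g
    have h3 : ((1 : G → ℂ) + (3 : ℂ) • V + (3 : ℂ) • W + (5 : ℂ) • ψ + (4 : ℂ) • ξ) g =
        if V g = 3 then 60 else 0 := by
      rw [← Five.reg H F g]; simp
    rw [h3]
    split_ifs with h4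
    · rw [hker g h4, Complex.conj_ofNat]; norm_num
    · rw [zero_mul]
  rw [Finset.sum_congr rfl fun g _ => h2 g, ← Finset.sum_filter, Finset.sum_const, nsmul_eq_mul] at h1
  have h3 : (Nat.card G : ℂ) ≠ 0 := card_ne_zero_complex
  have h5 : (Finset.univ.filter fun g : G => V g = 3).card ≠ 0 := by
    rw [Finset.card_ne_zero]
    exact ⟨1, Finset.mem_filter.2 ⟨Finset.mem_univ _, A.one3 F.aV⟩⟩
  have h6 : ((Finset.univ.filter fun g : G => V g = 3).card : ℂ) ≠ 0 := Nat.cast_ne_zero.2 h5
  rcases mul_eq_zero.1 h1 with h7 | h7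
  · exact inv_ne_zero h3 h7
  · rcases mul_eq_zero.1 h7 with h8 | h8
    · exact h6 h8
    · norm_num at h8

end Cfsg.Agent.H668.FourPoint
end

-- part: H668/FourGen
section
/-!
# The general group: reduction to `u ^ 2 = 1` and consequences
-/

set_option autoImplicit false
set_option linter.unusedSectionVars false
set_option linter.style.haveILetI false
open scoped ComplexConjugate
open Cfsg Cfsg.Agent.Characters.Core

namespace Cfsg.Agent.H668.FourGen

open Cfsg.Agent.H668.CharPeel Cfsg.Agent.H668.FourTypes Cfsg.Agent.H668.FourMain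
  Cfsg.Agent.H668.FourReal Cfsg.Agent.H668.FourPoint

universe v
variable {G : Type v} [Group G]

/-- The general hypothesis. -/
def HypG (G : Type v) [Group G] (u : G) : Prop :=
  ∀ χ : G → ℂ, IsIrrCharacter G χ → χ ≠ 1 → χ 1 - χ u = 4 ∨ χ u = 0

/-- The kernel of a character. -/
theorem ker_apply {χ : G → ℂ} [Finite G] (hχ : IsCharacter G χ) {g : G} (h : χ g = χ 1) (x : G) :
    χ (x * g) = χ x ∧ χ (g * x) = χ x := by
  obtain ⟨n, ρ, rfl⟩ := hχ
  have h1 : ρ g = LinearMap.id := by
    rw [← S0139.result]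
    rw [h, Representation.char_one]
  constructor
  · show LinearMap.trace ℂ _ (ρ (x * g)) = LinearMap.trace ℂ _ (ρ x)
    rw [map_mul, h1]; rfl
  · show LinearMap.trace ℂ _ (ρ (g * x)) = LinearMap.trace ℂ _ (ρ x)
    rw [map_mul, h1]; rfl

/-- The kernel of a character as a subgroup. -/
def kerC [Finite G] (χ : G → ℂ) (hχ : IsCharacter G χ) : Subgroup G where
  carrier := {g | χ g = χ 1}
  one_mem' := rfl
  mul_mem' := by
    intro a b ha hb
    exact ((ker_apply hχ hb a).1).trans ha
  inv_mem' := by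
    intro a ha
    have := (ker_apply hχ (g := a) ha a⁻¹).1
    rw [inv_mul_cancel] at this
    exact this.symm

theorem mem_kerC [Finite G] {χ : G → ℂ} (hχ : IsCharacter G χ) {g : G} :
    g ∈ kerC χ hχ ↔ χ g = χ 1 := Iff.rfl

theorem kerC_normal [Finite G] {χ : G → ℂ} (hχ : IsCharacter G χ) : (kerC χ hχ).Normal := by
  constructor
  intro n hn g
  rw [mem_kerC] at hn ⊢
  rw [← hn]
  exact classFunction_apply_eq (isCharacter_isClassFunction hχ) (by
    rw [isConj_comm, isConj_iff]; exact ⟨g, rfl⟩)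

theorem HypG.perf [Finite G] {u : G} (h : HypG G u) : commutator G = ⊤ := by
  by_contra hne
  obtain ⟨f, hf⟩ := ConstDiff.exists_hom_ne_one hne
  have hfi := (ConstDiff.ofHom f).2
  have hne1 : ((ConstDiff.ofHom f : IrrCharacter G) : G → ℂ) ≠ 1 := by
    intro h1
    exact ConstDiff.ofHom_ne_one hf (Subtype.ext h1)
  rcases h _ hfi hne1 with h1 | h1
  · rw [ConstDiff.ofHom_coe, ConstDiff.ofHom_coe, map_one, Units.val_one] at h1
    have h2 : ((f u : ℂˣ) : ℂ) = -3 := by linear_combination -h1
    have h3 : ((f u : ℂˣ) : ℂ) ^ Nat.card G = 1 := by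
      rw [← Units.val_pow_eq_pow_val, ← map_pow, pow_card_eq_one', map_one, Units.val_one]
    rw [h2] at h3
    have h4 : ((-3 : ℤ) ^ Nat.card G) = 1 := by exact_mod_cast h3
    have h5 : Nat.card G ≠ 0 := Nat.card_pos.ne'
    have h6 : (3 : ℤ) ∣ 1 := by
      rw [← h4]
      exact dvd_pow (by norm_num) h5
    norm_num at h6
  · rw [ConstDiff.ofHom_coe] at h1
    exact (f u).ne_zero h1

theorem HypG.quot [Finite G] {u : G} (h : HypG G u) (L : Subgroup G) [L.Normal] :
    HypG (G ⧸ L) (QuotientGroup.mk' L u) := by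
  intro χ hχ hne
  have h1 := isIrr_comp (QuotientGroup.mk' L) (QuotientGroup.mk'_surjective L) hχ
  have h2 : (fun g => χ (QuotientGroup.mk' L g)) ≠ 1 := by
    intro h3
    apply hne
    funext x
    obtain ⟨g, rfl⟩ := QuotientGroup.mk'_surjective L x
    exact congrFun h3 g
  have h3 := h _ h1 h2
  simpa using h3

/-- An irreducible character whose value at `u` is its degree is principal. -/
theorem HypG.eq_one_of_apply [Finite G] {u : G} (h : HypG G u) {χ : G → ℂ} (hχ : IsIrrCharacter G χ)
    (h1 : χ u = χ 1) : χ = 1 := by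
  by_contra hne
  rcases h χ hχ hne with h2 | h2
  · rw [h1, sub_self] at h2; norm_num at h2
  · rw [h1] at h2
    exact isIrr_apply_one_ne_zero hχ h2

/-- `u` lies in no proper normal subgroup. -/
theorem HypG.normal_eq_top [Finite G] {u : G} (h : HypG G u) (L : Subgroup G) [L.Normal]
    (hu : u ∈ L) : L = ⊤ := by
  by_contra hne
  have h1 := h.quot L
  have h2 : QuotientGroup.mk' L u = 1 := (QuotientGroup.eq_one_iff u).2 hu
  rw [h2] at h1
  have h3 : ∀ χ : IrrCharacter (G ⧸ L), (χ : G ⧸ L → ℂ) = 1 := fun χ => h1.eq_one_of_apply χ.2 rfl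
  have h4 : Nat.card (IrrCharacter (G ⧸ L)) = 1 := by
    rw [Nat.card_eq_one_iff_unique]
    exact ⟨⟨fun a b => Subtype.ext ((h3 a).trans (h3 b).symm)⟩, ⟨⟨1, isIrr_one⟩⟩⟩
  rw [card_irr] at h4
  have h5 : Subsingleton (G ⧸ L) := by
    refine ⟨fun a b => ?_⟩
    have h6 := (Nat.card_eq_one_iff_unique.1 h4).1
    have h7 : ∀ x : G ⧸ L, x = 1 := by
      intro x
      have h8 : ConjClasses.mk x = ConjClasses.mk (1 : G ⧸ L) := h6.elim _ _
      rw [ConjClasses.mk_eq_mk_iff_isConj] at h8
      exact isConj_one_left.1 h8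
    rw [h7 a, h7 b]
  exact hne (QuotientGroup.subgroup_eq_top_of_subsingleton L h5)

/-- No nonprincipal irreducible character has `|χ(u)| = χ(1)`. -/
theorem HypG.not_norm [Fintype G] {u : G} (h : HypG G u) {χ : G → ℂ} (hχ : IsIrrCharacter G χ)
    (hne : χ ≠ 1) (h1 : χ u * conj (χ u) = χ 1 * conj (χ 1)) : False := by
  have hc : IsCharacter G (χ * cj χ) := isCharacter_mul (isIrr_isCharacter hχ) (isChar_cj (isIrr_isCharacter hχ))
  have hmem : u ∈ kerC _ hc := h1
  have := kerC_normal hc
  have htop := h.normal_eq_top _ hmem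
  have h2 : ∀ g, (χ * cj χ) g = (χ * cj χ) 1 := fun g => by
    have : g ∈ kerC _ hc := by rw [htop]; trivial
    exact this
  obtain ⟨n, hn0, hn⟩ := isIrr_apply_one hχ
  have h3 : classInner (χ * cj χ) 1 = 1 := by
    rw [ip_mul_left, one_mul, cj_cj, classInner_irr_self hχ]
  rw [classInner_def] at h3
  have h4 : (Nat.card G : ℂ) ≠ 0 := card_ne_zero_complex
  have h5 : ∀ g : G, (χ * cj χ) g * conj ((1 : G → ℂ) g) = (n : ℂ) ^ 2 := by
    intro g
    rw [h2]
    simp only [Pi.mul_apply, cj_apply, hn, Pi.one_apply, map_one, mul_one, Complex.conj_natCast]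
    ring
  rw [Finset.sum_congr rfl fun g _ => h5 g, Finset.sum_const, nsmul_eq_mul, Finset.card_univ,
    ← Nat.card_eq_fintype_card, ← mul_assoc, inv_mul_cancel₀ h4, one_mul] at h3
  have h6 : n ^ 2 = 1 := by exact_mod_cast h3
  have h7 : n = 1 := by simpa using h6
  rw [h7, Nat.cast_one] at hn
  obtain ⟨f, hf⟩ := Characters.Linear.exists_hom_of_isIrrCharacter hχ hn
  refine ConstDiff.commutator_ne_top_of_hom (f := f) ?_ h.perf
  rintro rfl
  apply hne
  rw [hf]
  funext g
  simp

/-- The types: `χ(u) = 0` or `χ(1) = d`, `χ(u) = d - 4`, `3 ≤ d`. -/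
theorem HypG.type [Fintype G] {u : G} (h : HypG G u) {χ : G → ℂ} (hχ : IsIrrCharacter G χ)
    (hne : χ ≠ 1) : χ u = 0 ∨ ∃ d, A u χ d := by
  rcases h χ hχ hne with h1 | h1
  · right
    obtain ⟨n, hn0, hn⟩ := isIrr_apply_one hχ
    refine ⟨n, hχ, hne, hn, by rw [← hn]; linear_combination -h1, ?_⟩
    by_contra hlt
    rw [not_le] at hlt
    interval_cases n
    · obtain ⟨f, hf⟩ := Characters.Linear.exists_hom_of_isIrrCharacter hχ (by simpa using hn)
      refine ConstDiff.commutator_ne_top_of_hom (f := f) ?_ h.perf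
      rintro rfl
      apply hne
      rw [hf]
      funext g
      simp
    · apply h.not_norm hχ hne
      rw [hn] at h1 ⊢
      have : χ u = -2 := by push_cast at h1; linear_combination -h1
      rw [this]
      simp
  · left; exact h1

theorem HypG.exists_three [Fintype G] {u : G} (h : HypG G u) (hu : u ≠ 1) :
    ∃ V : G → ℂ, A u V 3 := by
  classical
  haveI : Fintype (IrrCharacter G) := by
    haveI := finite_irr (G := G)
    exact Fintype.ofFinite _
  by_contra hcon
  push Not at hcon
  obtain ⟨d, v, hd0, hd, hv, -, hd1, hv1⟩ := ConstDiff.exists_vals u 4 (by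
    intro χ hne
    simpa using h χ χ.2 hne)
  have hsum := ConstDiff.sum_dv u hu d v hd hv
  have hnn : ∀ χ ∈ (Finset.univ : Finset (IrrCharacter G)), 0 ≤ d χ * v χ := by
    intro χ _
    by_cases h1 : χ = ConstDiff.one G
    · rw [h1, hd1, hv1]; norm_num
    · have hne : (χ : G → ℂ) ≠ 1 := ConstDiff.ne_one_iff.1 h1
      apply mul_nonneg (hd0 χ).le
      rcases h.type χ.2 hne with h2 | ⟨n, h2⟩
      · have h3 := hv χ
        rw [h2] at h3
        have : v χ = 0 := by exact_mod_cast h3.symm
        rw [this]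
      · have h3 := hv χ
        rw [h2.val] at h3
        have h4 : n ≠ 3 := by
          rintro rfl
          exact hcon _ h2
        have h5 := h2.three
        have h6 : v χ = (n : ℤ) - 4 := by exact_mod_cast h3.symm
        rw [h6]
        omega
  have h0 := (Finset.sum_eq_zero_iff_of_nonneg hnn).1 hsum (ConstDiff.one G) (Finset.mem_univ _)
  rw [hd1, hv1] at h0
  norm_num at h0

theorem A.infl [Fintype G] {L : Subgroup G} [L.Normal] {u : G} {χ : G ⧸ L → ℂ} {n : ℕ}
    [Fintype (G ⧸ L)] (h : A (QuotientGroup.mk' L u) χ n) :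
    A u (fun g => χ (QuotientGroup.mk' L g)) n where
  irr := isIrr_comp (QuotientGroup.mk' L) (QuotientGroup.mk'_surjective L) h.irr
  ne := by
    intro h3
    apply h.ne
    funext x
    obtain ⟨g, rfl⟩ := QuotientGroup.mk'_surjective L x
    exact congrFun h3 g
  one := by simpa using h.one
  val := h.val
  three := h.three

/-- The package of all character-theoretic information. -/
theorem HypG.package [Fintype G] {u : G} (h : HypG G u) (hu : u ≠ 1) :
    ∃ N : Subgroup G, N.Normal ∧ Nat.card G = 60 * Nat.card N ∧ u ∉ N ∧ u ^ 2 ∈ N ∧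
      (∀ (k : ℕ) (x : G), x ^ 2 ^ k = 1 → x ∉ N → IsConj x u) ∧
      (∀ n ∈ N, IsConj (u * n) u) ∧
      Nat.card (Subgroup.centralizer ({u} : Set G)) = 4 := by
  classical
  haveI : Fintype (IrrCharacter G) := by
    haveI := finite_irr (G := G)
    exact Fintype.ofFinite _
  -- elements `u²` lie in the kernel of degree three characters
  have hker : ∀ U : G → ℂ, A u U 3 → U (u ^ 2) = 3 := by
    intro U hU
    have h1 := apply_mul_self h.perf hU.char (A.one3 hU) u
    rw [hU.val] at h1
    rw [sq, h1]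
    push_cast
    norm_num
  obtain ⟨V₀, hV₀⟩ := h.exists_three hu
  set K : Subgroup G := Subgroup.normalClosure {u ^ 2} with hK
  have hKle : ∀ U : G → ℂ, (hU : A u U 3) → K ≤ kerC U hU.char := by
    intro U hU
    have := kerC_normal hU.char
    apply Subgroup.normalClosure_le_normal
    rw [Set.singleton_subset_iff]
    show U (u ^ 2) = U 1
    rw [hker U hU, A.one3 hU]
  have huK : u ∉ K := by
    intro h1
    have h2 : V₀ u = V₀ 1 := hKle V₀ hV₀ h1
    rw [hV₀.val, hV₀.one] at h2
    norm_num at h2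
  have hsqK : u ^ 2 ∈ K := Subgroup.subset_normalClosure rfl
  have hq := h.quot K
  have hqne : QuotientGroup.mk' K u ≠ 1 := by
    intro h1
    exact huK ((QuotientGroup.eq_one_iff u).1 h1)
  have HQ : Hyp (G ⧸ K) (QuotientGroup.mk' K u) := by
    refine ⟨hq.perf, ?_, hq⟩
    rw [← map_pow]
    exact (QuotientGroup.eq_one_iff _).2 hsqK
  obtain ⟨V, W, ψ, ξ, F⟩ := exists_five HQ (hq.exists_three hqne)
  set π := QuotientGroup.mk' K with hπ
  have aV := A.infl F.aV
  have aW := A.infl F.aW
  have aψ := A.infl F.aψ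
  have aξ := A.infl F.aξ
  -- the only two characters of degree three
  have honly : ∀ U : G → ℂ, A u U 3 → U = (fun g => V (π g)) ∨ U = (fun g => W (π g)) := by
    intro U hU
    have hsum : ∑ n : K, U n ≠ 0 := by
      have : ∀ n : K, U n = 3 := by
        intro n
        have h1 : U n = U 1 := hKle U hU n.2
        rw [h1, A.one3 hU]
      simp only [this, Finset.sum_const, nsmul_eq_mul]
      apply mul_ne_zero _ (by norm_num)
      rw [Nat.cast_ne_zero]
      exact Finset.card_ne_zero.2 ⟨1, Finset.mem_univ _⟩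
    obtain ⟨U', hU'⟩ := Blocks.Deflate.exists_deflation K U hU.irr hsum
    have h1 : A (π u) (U' : G ⧸ K → ℂ) 3 := by
      refine ⟨U'.2, ?_, ?_, ?_, le_refl _⟩
      · intro h2
        apply hU.ne
        rw [hU', h2]; rfl
      · have := hU.one
        rw [hU'] at this
        exact this
      · have := hU.val
        rw [hU'] at this
        exact this
    rcases Five.eq_or_eq HQ F h1 with h2 | h2
    · left; rw [hU', h2]; rfl
    · right; rw [hU', h2]; rfl
  obtain ⟨d, v, hd0, hd, hv, -, hd1, hv1⟩ := ConstDiff.exists_vals u 4 (by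
    intro χ hne
    simpa using h χ χ.2 hne)
  have hsum := ConstDiff.sum_dv u hu d v hd hv
  set iV : IrrCharacter G := ⟨_, aV.irr⟩ with hiV
  set iW : IrrCharacter G := ⟨_, aW.irr⟩ with hiW
  set iψ : IrrCharacter G := ⟨_, aψ.irr⟩ with hiψ
  have dvals : ∀ (χ : IrrCharacter G) (n : ℕ), A u (χ : G → ℂ) n → d χ = n ∧ v χ = n - 4 := by
    intro χ n hχ
    have h1 := hd χ
    have h2 := hv χ
    rw [hχ.one] at h1
    rw [hχ.val] at h2
    exact ⟨by exact_mod_cast h1.symm, by exact_mod_cast h2.symm⟩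
  have dV := dvals iV 3 aV
  have dW := dvals iW 3 aW
  have dψ := dvals iψ 5 aψ
  have nVW : iV ≠ iW := by
    intro h1
    apply F.ne
    have h2 := congrArg Subtype.val h1
    funext x
    obtain ⟨g, rfl⟩ := QuotientGroup.mk'_surjective K x
    exact congrFun h2 g
  have nVψ : iV ≠ iψ := by
    intro h1
    have := dV.1
    rw [h1, dψ.1] at this
    norm_num at this
  have nWψ : iW ≠ iψ := by
    intro h1
    have := dW.1
    rw [h1, dψ.1] at this
    norm_num at this
  have n1V : ConstDiff.one G ≠ iV := by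
    intro h1
    have := dV.1
    rw [← h1, hd1] at this
    norm_num at this
  have n1W : ConstDiff.one G ≠ iW := by
    intro h1
    have := dW.1
    rw [← h1, hd1] at this
    norm_num at this
  have n1ψ : ConstDiff.one G ≠ iψ := by
    intro h1
    have := dψ.1
    rw [← h1, hd1] at this
    norm_num at this
  set S : Finset (IrrCharacter G) := {ConstDiff.one G, iV, iW, iψ} with hS
  have hSsum : ∀ f : IrrCharacter G → ℂ, ∑ χ ∈ S, f χ = f (ConstDiff.one G) + (f iV + (f iW + f iψ)) := by
    intro f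
    rw [hS, Finset.sum_insert (by simp [n1V, n1W, n1ψ]), Finset.sum_insert (by simp [nVW, nVψ]),
      Finset.sum_insert (by simp [nWψ]), Finset.sum_singleton]
  have hSsumZ : ∀ f : IrrCharacter G → ℤ, ∑ χ ∈ S, f χ = f (ConstDiff.one G) + (f iV + (f iW + f iψ)) := by
    intro f
    rw [hS, Finset.sum_insert (by simp [n1V, n1W, n1ψ]), Finset.sum_insert (by simp [nVW, nVψ]),
      Finset.sum_insert (by simp [nWψ]), Finset.sum_singleton]
  have hnn : ∀ χ ∈ Sᶜ, 0 ≤ d χ * v χ := by
    intro χ hχ
    rw [Finset.mem_compl, hS] at hχ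
    simp only [Finset.mem_insert, Finset.mem_singleton, not_or] at hχ
    have hne : (χ : G → ℂ) ≠ 1 := ConstDiff.ne_one_iff.1 hχ.1
    apply mul_nonneg (hd0 χ).le
    rcases h.type χ.2 hne with h2 | ⟨n, h2⟩
    · have h3 := hv χ
      rw [h2] at h3
      have : v χ = 0 := by exact_mod_cast h3.symm
      rw [this]
    · have h4 : n ≠ 3 := by
        rintro rfl
        rcases honly _ h2 with h5 | h5
        · exact hχ.2.1 (Subtype.ext h5)
        · exact hχ.2.2.1 (Subtype.ext h5)
      have h5 := h2.three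
      rw [(dvals χ n h2).2]
      omega
  have hrest : ∀ χ : IrrCharacter G, χ ∉ S → (χ : G → ℂ) u = 0 := by
    rw [← Finset.sum_add_sum_compl S, hSsumZ, hd1, hv1, dV.1, dV.2, dW.1, dW.2, dψ.1, dψ.2] at hsum
    have h0 : ∑ χ ∈ Sᶜ, d χ * v χ = 0 := by
      push_cast at hsum
      linarith
    have h1 := (Finset.sum_eq_zero_iff_of_nonneg hnn).1 h0
    intro χ hχ
    have h2 := h1 χ (Finset.mem_compl.2 hχ)
    rcases mul_eq_zero.1 h2 with h3 | h3
    · exact absurd h3 (hd0 χ).ne'
    · rw [hv χ, h3]; norm_num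
  have hcol : ∀ x : G, ∑ χ : IrrCharacter G, (χ : G → ℂ) x * conj ((χ : G → ℂ) u) =
      1 - V (π x) - W (π x) + ψ (π x) := by
    intro x
    rw [← Finset.sum_add_sum_compl S, hSsum, Finset.sum_eq_zero (s := Sᶜ), add_zero]
    · have e1 : ((ConstDiff.one G : IrrCharacter G) : G → ℂ) x = 1 := rfl
      have e2 : ((ConstDiff.one G : IrrCharacter G) : G → ℂ) u = 1 := rfl
      have e3 : (iV : G → ℂ) u = -1 := aV.val.trans (by push_cast; norm_num)
      have e4 : (iW : G → ℂ) u = -1 := aW.val.trans (by push_cast; norm_num)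
      have e5 : (iψ : G → ℂ) u = 1 := aψ.val.trans (by push_cast; norm_num)
      rw [e1, e2, e3, e4, e5]
      simp only [map_one, map_neg, mul_one, mul_neg]
      show 1 + (-(V (π x)) + (-(W (π x)) + ψ (π x))) = _
      ring
    · intro χ hχ
      rw [hrest χ (Finset.mem_compl.1 hχ), map_zero, mul_zero]
  have hconj : ∀ x : G, V (π x) = -1 →
      IsConj x u ∧ Nat.card (Subgroup.centralizer ({u} : Set G)) = 4 := by
    intro x hx
    obtain ⟨a, b, c⟩ := Five.neg_one HQ F hx
    have h1 := hcol x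
    rw [hx, a, b, S0145.sum_irr_mul_conj] at h1
    by_cases h2 : IsConj x u
    · refine ⟨h2, ?_⟩
      rw [if_pos h2] at h1
      have h3 : (Nat.card (Subgroup.centralizer ({u} : Set G)) : ℂ) = (4 : ℕ) := by
        rw [h1]; norm_num
      exact_mod_cast h3
    · rw [if_neg h2] at h1
      norm_num at h1
  have hVu : V (π u) = -1 := by
    have := F.aV.val
    rw [this]; push_cast; norm_num
  set N : Subgroup G := (kerC V F.aV.char).comap π with hN
  have hNn : N.Normal := by
    have := kerC_normal F.aV.char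
    rw [hN]; infer_instance
  have hmem : ∀ x : G, x ∈ N ↔ V (π x) = 3 := by
    intro x
    rw [hN, Subgroup.mem_comap, mem_kerC, A.one3 F.aV]
  refine ⟨N, hNn, ?_, ?_, ?_, ?_, ?_, (hconj u hVu).2⟩
  · -- cardinality
    have hreg : ∀ g : G, 1 + 3 * V (π g) + 3 * W (π g) + 5 * ψ (π g) + 4 * ξ (π g) =
        if g ∈ N then (60 : ℂ) else 0 := by
      intro g
      rw [Five.reg HQ F (π g)]
      simp only [hmem]
    have h1 : classInner ((1 : G → ℂ) + (3 : ℂ) • (fun g => V (π g)) + (3 : ℂ) • (fun g => W (π g)) +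
        (5 : ℂ) • (fun g => ψ (π g)) + (4 : ℂ) • (fun g => ξ (π g))) 1 = 1 := by
      simp only [classInner_add_left, classInner_smul_left]
      rw [classInner_irr_self isIrr_one, aV.ip_one, aW.ip_one, aψ.ip_one, aξ.ip_one]
      norm_num
    rw [classInner_def] at h1
    have h2 : ∀ g : G, ((1 : G → ℂ) + (3 : ℂ) • (fun g => V (π g)) + (3 : ℂ) • (fun g => W (π g)) +
        (5 : ℂ) • (fun g => ψ (π g)) + (4 : ℂ) • (fun g => ξ (π g))) g *
        conj ((1 : G → ℂ) g) = if g ∈ N then (60 : ℂ) else 0 := by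
      intro g
      rw [← hreg g]
      simp
    rw [Finset.sum_congr rfl fun g _ => h2 g, ← Finset.sum_filter, Finset.sum_const,
      nsmul_eq_mul] at h1
    have h3 : (Nat.card G : ℂ) ≠ 0 := card_ne_zero_complex
    have h4 : ((Finset.univ.filter fun g : G => g ∈ N).card : ℂ) * 60 = Nat.card G := by
      field_simp at h1
      linear_combination h1
    have h5 : (Finset.univ.filter fun g : G => g ∈ N).card = Nat.card N := by
      rw [Nat.card_eq_fintype_card, Fintype.card_subtype]
    rw [h5] at h4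
    have h6 : Nat.card N * 60 = Nat.card G := by exact_mod_cast h4
    omega
  · rw [hmem, hVu]; norm_num
  · rw [hmem, map_pow, HQ.sq]; exact A.one3 F.aV
  · intro k x hx hxN
    apply (hconj x _).1
    have h1 := Five.two_element HQ F k (π x) (by rw [← map_pow, hx, map_one])
    rcases h1 with h1 | h1
    · exact absurd ((hmem x).2 h1) hxN
    · exact h1
  · intro n hn
    apply (hconj _ _).1
    rw [map_mul]
    have h1 : V (π n) = V 1 := by rw [(hmem n).1 hn, A.one3 F.aV]
    rw [(ker_apply F.aV.char h1 (π u)).1, hVu]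

end Cfsg.Agent.H668.FourGen
end
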